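import Groth.Agent.HopfLib.GITApps
import Groth.Agent.HopfLib.FiniteGen
import Groth.Agent.HopfLib.ModuleInvariants
import Mathlib.RingTheory.RingHom.Etale
import Mathlib.RingTheory.Etale.Locus
import Mathlib.RingTheory.Nullstellensatz

/-!
# Equivariant étale locus and invariant neighbourhoods
-/

open TensorProduct HopfRep Coalgebra

universe u

namespace Groth.Agent.Luna8

open Groth.Agent.HopfLib

set_option linter.unusedSectionVars false
set_option maxHeartbeats 400000

variable {k : Type u} [Field k] {A : Type u} [CommRing A] [HopfAlgebra k A]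
  {S : Type u} [CommRing S] [Algebra k S] [Comod k A S] [GLin.IsCoactAlg k A S]
  {R : Type u} [CommRing R] [Algebra k R] [Comod k A R] [GLin.IsCoactAlg k A R]
  [Algebra S R] [IsScalarTower k S R]

/-- The structure map commutes with the coactions. -/
def IsEquiv (k : Type u) [Field k] (A S R : Type u) [CommRing A] [HopfAlgebra k A] [CommRing S] [Algebra k S]
    [Comod k A S] [CommRing R] [Algebra k R] [Comod k A R] [Algebra S R] [IsScalarTower k S R] : Prop :=
  ∀ s : S, Comod.coact (k := k) (A := A) (algebraMap S R s) =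
    Algebra.TensorProduct.map (IsScalarTower.toAlgHom k S R) (AlgHom.id k A) (Comod.coact (k := k) (A := A) s)

theorem IsEquiv.orbitHom_comp (h : IsEquiv k A S R) (w : R →ₐ[k] k) :
    GLin.orbitHom k A (w.comp (IsScalarTower.toAlgHom k S R)) =
      (GLin.orbitHom k A w).comp (IsScalarTower.toAlgHom k S R) := by
  refine AlgHom.ext fun s => ?_
  simp only [GLin.orbitHom, AlgHom.comp_apply, GLin.coactAlgHom_apply]
  rw [show (IsScalarTower.toAlgHom k S R) s = algebraMap S R s from rfl, h s]
  generalize Comod.coact (k := k) (A := A) s = t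
  induction t using TensorProduct.induction_on with
  | zero => simp
  | add p q hp hq => simp only [map_add, hp, hq]
  | tmul p q => simp

theorem IsEquiv.actPt_comp (h : IsEquiv k A S R) (g : A →ₐ[k] k) (w : R →ₐ[k] k) :
    (GLin.actPt k g w).comp (IsScalarTower.toAlgHom k S R) =
      GLin.actPt k g (w.comp (IsScalarTower.toAlgHom k S R)) := by
  rw [actPt_eq, actPt_eq, h.orbitHom_comp, AlgHom.comp_assoc]

theorem IsEquiv.hit (h : IsEquiv k A S R) (g : A →ₗ[k] k) (s : S) :
    hit g (algebraMap S R s) = algebraMap S R (hit g s) := by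
  rw [hit_apply, hit_apply, h s]
  generalize Comod.coact (k := k) (A := A) s = t
  induction t using TensorProduct.induction_on with
  | zero => simp
  | add p q hp hq => simp only [map_add, hp, hq]
  | tmul p q => simp [Algebra.smul_def, ← IsScalarTower.algebraMap_apply]

theorem IsEquiv.algebraMap_mem_invariants (h : IsEquiv k A S R) {s : S} (hs : s ∈ GLin.invariants k A S) :
    algebraMap S R s ∈ GLin.invariants k A R := by
  rw [GLin.mem_invariants_iff, h s, (GLin.mem_invariants_iff k A S s).1 hs]
  simp

theorem IsEquiv.isHopfMod (h : IsEquiv k A S R) : TameAct.IsHopfMod k A S R := by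
  refine ⟨fun b m => ?_⟩
  rw [Algebra.smul_def, GLin.IsCoactAlg.coact_mul, h b]
  generalize Comod.coact (k := k) (A := A) b = t
  generalize Comod.coact (k := k) (A := A) m = w
  induction t using TensorProduct.induction_on with
  | zero => simp
  | add p q hp hq => simp only [map_add, add_mul, LinearMap.add_apply, hp, hq]
  | tmul p q =>
    induction w using TensorProduct.induction_on with
    | zero => simp
    | add p' q' hp hq => simp only [map_add, mul_add, hp, hq]
    | tmul p' q' => simp [TameAct.hmSMul, Algebra.smul_def]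

/-- Invariants of a finite equivariant algebra are finite over the invariants. -/
theorem finite_invariants [IsNoetherianRing S] [Module.Finite S R] (hG : IsLinearlyReductive k A)
    (h : IsEquiv k A S R) {S₀ : Type u} [CommRing S₀] [Algebra k S₀] [Algebra S₀ S] [IsScalarTower k S₀ S]
    (hS₀ : (IsScalarTower.toAlgHom k S₀ S).range = GLin.invariants k A S)
    {R₀ : Type u} [CommRing R₀] [Algebra k R₀] [Algebra R₀ R] [IsScalarTower k R₀ R]
    (hR₀i : Function.Injective (algebraMap R₀ R))
    (hR₀ : (IsScalarTower.toAlgHom k R₀ R).range = GLin.invariants k A R)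
    [Algebra S₀ R₀] [Algebra S₀ R] [IsScalarTower S₀ S R] [IsScalarTower S₀ R₀ R] :
    Module.Finite S₀ R₀ := by
  classical
  haveI := h.isHopfMod
  obtain ⟨s, hs, hgen⟩ := exists_finset_fixedPts_generators (R := S) (M := R) hG
  have hex : ∀ y : s, ∃ b : R₀, algebraMap R₀ R b = y := fun y => by
    have h1 : (y : R) ∈ GLin.invariants k A R := hs y.2
    rw [← hR₀] at h1
    exact h1
  choose b hb using hex
  refine ⟨⟨Finset.univ.image b, eq_top_iff.2 fun r _ => ?_⟩⟩
  have hr : algebraMap R₀ R r ∈ GLin.invariants k A R := hR₀ ▸ ⟨r, rfl⟩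
  obtain ⟨c, hc, hsum⟩ := hgen _ hr
  have hc' : ∀ y : s, ∃ c₀ : S₀, algebraMap S₀ S c₀ = c y := fun y => by
    have h1 := hc y y.2
    rw [← hS₀] at h1
    exact h1
  choose c₀ hc₀ using hc'
  have : r = ∑ y : s, c₀ y • b y := hR₀i (by
    rw [hsum, map_sum, ← Finset.sum_coe_sort]
    refine Finset.sum_congr rfl fun y _ => ?_
    rw [Algebra.smul_def, Algebra.smul_def, map_mul, hb, ← IsScalarTower.algebraMap_apply,
      IsScalarTower.algebraMap_apply S₀ S R, hc₀])
  rw [this]
  exact Submodule.sum_mem _ fun y _ => Submodule.smul_mem _ _ (Submodule.subset_span (by simp))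

/-- The invariant subring is of finite type. -/
theorem finiteType_invariants [Algebra.FiniteType k S] (hG : IsLinearlyReductive k A)
    {S₀ : Type u} [CommRing S₀] [Algebra k S₀] [Algebra S₀ S] [IsScalarTower k S₀ S]
    (hS₀i : Function.Injective (algebraMap S₀ S))
    (hS₀ : (IsScalarTower.toAlgHom k S₀ S).range = GLin.invariants k A S) :
    Algebra.FiniteType k S₀ := by
  classical
  obtain ⟨s, hs, hgen⟩ := exists_finset_invariants_adjoin hG S
  have hfg : (GLin.invariants k A S).FG :=
    ⟨s, le_antisymm (Algebra.adjoin_le fun x hx => hs x hx) fun x hx => hgen x hx⟩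
  rw [← hS₀] at hfg
  haveI := (Subalgebra.fg_iff_finiteType _).1 hfg
  exact Algebra.FiniteType.equiv inferInstance
    (AlgEquiv.ofInjective (IsScalarTower.toAlgHom k S₀ S) hS₀i).symm

section Points

variable [IsAlgClosed k] [Algebra.FiniteType k A]

theorem IsEquiv.actAlgHom_algebraMap (h : IsEquiv k A S R) (g : A →ₐ[k] k) (s : S) :
    actAlgHom (R := R) g (algebraMap S R s) = algebraMap S R (actAlgHom (R := S) g s) := by
  rw [actAlgHom_apply, actAlgHom_apply, act_eq_hit, act_eq_hit, h.hit]


/-- An ideal stable under all rational translations is stable under all operators. -/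
theorem hit_mem_of_forall_act_mem [IsReduced A] (I : Ideal R)
    (hI : ∀ g : A →ₐ[k] k, ∀ r ∈ I, actAlgHom (R := R) g r ∈ I) (α : A →ₗ[k] k) {r : R} (hr : r ∈ I) :
    Groth.Agent.HopfLib.hit α r ∈ I := by
  refine Ideal.Quotient.eq_zero_iff_mem.1 ((Module.forall_dual_apply_eq_zero_iff k _).1 fun φ => ?_)
  let f : R →ₗ[k] k := φ.comp (Ideal.Quotient.mkₐ k I).toLinearMap
  have hcomm : ∀ (β : A →ₗ[k] k) (t : R ⊗[k] A), f (sliceR β t) = β (sliceL f t) := fun β t => by
    induction t using TensorProduct.induction_on with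
    | zero => simp
    | add p q hp hq => simp only [map_add, hp, hq]
    | tmul p q => simp [mul_comm]
  have hz : sliceL f (Comod.coact (k := k) (A := A) r) = 0 := by
    by_contra hne
    obtain ⟨g, hg⟩ := exists_algHom_ne_zero (k := k) (fun h => hne h.eq_zero)
    refine hg ?_
    rw [← AlgHom.toLinearMap_apply, ← hcomm, ← hit_apply, ← act_eq_hit, ← actAlgHom_apply]
    show φ (Ideal.Quotient.mk I _) = 0
    rw [Ideal.Quotient.eq_zero_iff_mem.2 (hI g r hr), map_zero]
  show f (Groth.Agent.HopfLib.hit α r) = 0
  rw [hit_apply, hcomm, hz, map_zero]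

/-- The points killed by a stable ideal are closed under orbit closures. -/
theorem le_ker_of_inOrbitClosure (I : Ideal R)
    (hI : ∀ g : A →ₐ[k] k, ∀ r ∈ I, actAlgHom (R := R) g r ∈ I) {z w : R →ₐ[k] k}
    (hz : I ≤ RingHom.ker z) (hw : GLin.InOrbitClosure k A z w) : I ≤ RingHom.ker w := by
  intro r hr
  refine RingHom.mem_ker.2 ((forall_vanishing_iff_inOrbitClosure z w).2 hw r fun g => ?_)
  rw [← actAlgHom_apply]
  exact hz (hI g r hr)

/-- A stable ideal not vanishing on a closed orbit contains an invariant not vanishing there. -/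
theorem exists_invariant_mem_ne_zero [Algebra.FiniteType k R] [IsReduced A] (hG : IsLinearlyReductive k A)
    (I : Ideal R) (hI : ∀ g : A →ₐ[k] k, ∀ r ∈ I, actAlgHom (R := R) g r ∈ I)
    {x : R →ₐ[k] k} (hx : IsClosedPtOrbit k A x) (hne : ¬ I ≤ RingHom.ker x) :
    ∃ f ∈ GLin.invariants k A R, f ∈ I ∧ x f ≠ 0 := by
  obtain ⟨α, hα, h1⟩ := exists_integral hG
  let m : Set R := {r | r ∈ GLin.invariants k A R ∧ x r = 0}
  have htop : I ⊔ Ideal.span m = ⊤ := by
    by_contra hne'
    obtain ⟨z, hz⟩ := exists_algHom_le_ker (k := k) hne'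
    obtain ⟨w, hzw, hw⟩ := exists_isClosedPtOrbit (A := A) z
    have hwI := le_ker_of_inOrbitClosure I hI (le_sup_left.trans hz) hzw
    have heq : w.comp (GLin.invariants k A R).val = x.comp (GLin.invariants k A R).val := by
      refine AlgHom.ext fun r => ?_
      have hm : (r : R) - algebraMap k R (x r) ∈ m :=
        ⟨sub_mem r.2 ((GLin.invariants k A R).algebraMap_mem _), by simp⟩
      have h2 : z ((r : R) - algebraMap k R (x r)) = 0 :=
        hz (Submodule.mem_sup_right (Ideal.subset_span hm))
      rw [map_sub, sub_eq_zero, AlgHom.commutes] at h2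
      show w r = x r
      rw [apply_eq_of_inOrbitClosure hzw r.2]
      simpa using h2
    obtain ⟨g, hg⟩ := hw.exists_eq_actPt hG hx heq
    exact hne (le_ker_of_inOrbitClosure I hI hwI (hg ▸ inOrbitClosure_actPt g w))
  obtain ⟨i, hi, j, hj, hij⟩ := Submodule.mem_sup.1 ((Ideal.eq_top_iff_one _).1 htop)
  refine ⟨reynolds α i, reynolds_mem_invariants hα h1 i, hit_mem_of_forall_act_mem I hI α hi, fun h0 => ?_⟩
  have hxj : ∀ y ∈ Ideal.span m, x (reynolds α y) = 0 := by
    intro y hy
    have key : ∀ b : R, x (reynolds α (b * y)) = 0 := by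
      induction hy using Submodule.span_induction with
      | mem y hy =>
        intro b
        rw [mul_comm, show reynolds α (y * b) = _ from hit_mul_of_mem_invariants α hy.1 b, map_mul, hy.2, zero_mul]
      | zero => intro b; rw [mul_zero, map_zero, map_zero]
      | add a c _ _ ha hc => intro b; rw [mul_add, map_add, map_add, ha, hc, add_zero]
      | smul c a _ ha => intro b; rw [smul_eq_mul, ← mul_assoc]; exact ha _
    simpa using key 1
  have h2 : reynolds α (1 : R) = 1 :=
    hit_eq_self_of_mem_fixedPts h1 ((GLin.invariants k A R).one_mem)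
  have h3 : reynolds α (i + j) = 1 := by rw [hij]; exact h2
  rw [map_add] at h3
  have h4 := congrArg x h3
  rw [map_add, h0, hxj j hj, map_one, add_zero] at h4
  exact zero_ne_one h4

/-- The ideal of the complement of the étale locus. -/
noncomputable def nonEtaleIdeal (S R : Type u) [CommRing S] [CommRing R] [Algebra S R] : Ideal R :=
  PrimeSpectrum.vanishingIdeal (Algebra.etaleLocus S R)ᶜ

theorem mem_nonEtaleIdeal {r : R} :
    r ∈ nonEtaleIdeal S R ↔ (↑(PrimeSpectrum.basicOpen r) : Set (PrimeSpectrum R)) ⊆ Algebra.etaleLocus S R := by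
  rw [nonEtaleIdeal, PrimeSpectrum.mem_vanishingIdeal]
  exact ⟨fun h P hP => by_contra fun hn => hP (h P hn), fun h P hP => by_contra fun hn => hP (h hn)⟩

theorem actAlgHom_mem_nonEtaleIdeal [Algebra.FinitePresentation S R] (h : IsEquiv k A S R)
    (g : A →ₐ[k] k) {r : R} (hr : r ∈ nonEtaleIdeal S R) :
    actAlgHom (R := R) g r ∈ nonEtaleIdeal S R := by
  rw [mem_nonEtaleIdeal, Algebra.basicOpen_subset_etaleLocus_iff_etale, ← RingHom.etale_algebraMap] at hr ⊢
  let σR := RingEquiv.ofBijective (actAlgHom (R := R) g) (actAlgHom_bijective g)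
  let σS := RingEquiv.ofBijective (actAlgHom (R := S) g) (actAlgHom_bijective g)
  have hmap : (Submonoid.powers r).map σR.toMonoidHom = Submonoid.powers (actAlgHom (R := R) g r) :=
    Submonoid.map_powers σR.toMonoidHom r
  let L : Localization.Away r ≃+* Localization.Away (actAlgHom (R := R) g r) :=
    IsLocalization.ringEquivOfRingEquiv _ _ σR hmap
  have e : algebraMap S (Localization.Away (actAlgHom (R := R) g r)) =
      L.toRingHom.comp ((algebraMap S (Localization.Away r)).comp σS.symm.toRingHom) := by
    refine RingHom.ext fun s => ?_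
    show _ = L (algebraMap S _ (σS.symm s))
    rw [IsScalarTower.algebraMap_apply S R (Localization.Away r),
      show L (algebraMap R _ (algebraMap S R (σS.symm s))) = algebraMap R _ (σR (algebraMap S R (σS.symm s))) from
        IsLocalization.ringEquivOfRingEquiv_eq hmap _,
      show σR (algebraMap S R (σS.symm s)) = algebraMap S R (σS (σS.symm s)) from h.actAlgHom_algebraMap g _,
      σS.apply_symm_apply, ← IsScalarTower.algebraMap_apply S R]
  rw [e]
  exact RingHom.Etale.respectsIso.1 _ L (RingHom.Etale.respectsIso.2 _ σS.symm hr)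

end Points

end Groth.Agent.Luna8
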