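import Groth.Agent.Luna8.Model
import Mathlib.RingTheory.Ideal.IdempotentFG
import Mathlib.RingTheory.Spectrum.Prime.Chevalley

/-!
# The strongly étale neighbourhood
-/

open TensorProduct HopfRep Coalgebra

universe u

namespace Groth.Agent.Luna8

open Groth.Agent.HopfLib

set_option linter.unusedSectionVars false
set_option maxHeartbeats 1000000

variable {k : Type u} [Field k] [IsAlgClosed k] {A : Type u} [CommRing A] [IsDomain A] [HopfAlgebra k A]
  [Algebra.FiniteType k A]
  {S : Type u} [CommRing S] [Algebra k S] [Algebra.FiniteType k S] [Comod k A S] [GLin.IsCoactAlg k A S]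
  {R : Type u} [CommRing R] [Algebra k R] [Algebra.FiniteType k R] [Comod k A R] [GLin.IsCoactAlg k A R]
  [Algebra S R] [IsScalarTower k S R]
  {S₀ : Type u} [CommRing S₀] [Algebra k S₀] [Algebra S₀ S] [IsScalarTower k S₀ S]
  {R₀ : Type u} [CommRing R₀] [Algebra k R₀] [Algebra R₀ R] [IsScalarTower k R₀ R]
  [Algebra S₀ R₀] [Algebra S₀ R] [IsScalarTower S₀ S R] [IsScalarTower S₀ R₀ R]

theorem liftAlgHom_algebraMap {Q L P K : Type u} [CommRing Q] [CommRing L] [Algebra Q L] [CommRing P] (x : Q)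
    [IsLocalization.Away x L] [CommRing K] [Algebra K Q] [Algebra K L] [Algebra K P] [IsScalarTower K Q L]
    {f : Q →ₐ[K] P} (hf : IsUnit (f x)) (a : Q) :
    (IsLocalization.Away.liftAlgHom x hf : L →ₐ[K] P) (algebraMap Q L a) = f a :=
  IsLocalization.Away.lift_eq x hf a

theorem sliceR_map_mul {T : Type u} [CommRing T] [Algebra k T] (incl : S →ₐ[k] T) (β : A →ₗ[k] k) (t : S ⊗[k] A) (c : T) :
    sliceR β (Algebra.TensorProduct.map incl (AlgHom.id k A) t * (c ⊗ₜ[k] (1 : A))) = incl (sliceR β t) * c := by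
  induction t using TensorProduct.induction_on with
  | zero => simp
  | add p q hp hq => simp only [map_add, add_mul, hp, hq]
  | tmul p q => simp [Algebra.smul_def, mul_assoc]

/-- The canonical map from the base change to the localised algebra. -/
noncomputable def Psi (H : R₀) :
    S ⊗[S₀] Localization.Away H →ₐ[S] Localization.Away (algebraMap R₀ R H) :=
  Algebra.TensorProduct.lift (Algebra.ofId S _)
    (IsLocalization.Away.liftAlgHom (S := Localization.Away H) H
      (f := (IsScalarTower.toAlgHom S₀ R (Localization.Away (algebraMap R₀ R H))).comp (IsScalarTower.toAlgHom S₀ R₀ R))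
      (IsLocalization.Away.algebraMap_isUnit (S := Localization.Away (algebraMap R₀ R H)) (algebraMap R₀ R H)) :
        Localization.Away H →ₐ[S₀] Localization.Away (algebraMap R₀ R H))
    fun _ _ => Commute.all _ _

theorem Psi_tmul_algebraMap (H : R₀) (s : S) (r : R₀) :
    Psi (R := R) H (s ⊗ₜ[S₀] algebraMap R₀ (Localization.Away H) r) =
      algebraMap R (Localization.Away (algebraMap R₀ R H)) (algebraMap S R s * algebraMap R₀ R r) := by
  rw [Psi, Algebra.TensorProduct.lift_tmul, Algebra.ofId_apply, map_mul, ← IsScalarTower.algebraMap_apply S R]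
  refine congrArg (_ * ·) ?_
  exact (liftAlgHom_algebraMap (L := Localization.Away H) H _ r).trans rfl

/-- The translation of the localised algebra. -/
theorem exists_tau (hR₀ : (IsScalarTower.toAlgHom k R₀ R).range = GLin.invariants k A R) (H : R₀) (g : A →ₐ[k] k) :
    ∃ τ : Localization.Away (algebraMap R₀ R H) →+* Localization.Away (algebraMap R₀ R H),
      ∀ r, τ (algebraMap R _ r) = algebraMap R _ (actAlgHom (R := R) g r) := by
  refine ⟨IsLocalization.Away.lift (algebraMap R₀ R H)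
    (g := (algebraMap R (Localization.Away (algebraMap R₀ R H))).comp (actAlgHom (R := R) g).toRingHom) ?_,
    fun r => IsLocalization.Away.lift_eq _ _ r⟩
  show IsUnit (algebraMap R _ (actAlgHom (R := R) g (algebraMap R₀ R H)))
  rw [actAlgHom_of_mem_invariants g (hR₀ ▸ ⟨H, rfl⟩)]
  exact IsLocalization.Away.algebraMap_isUnit _

theorem psi_surjective (H : R₀)
    (hgen : ∀ r : R, ∃ e : ℕ, algebraMap R₀ R H ^ e * r ∈ Algebra.adjoin S (Set.range (algebraMap R₀ R))) :
    Function.Surjective (Psi (R := R) (S := S) (S₀ := S₀) H) := by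
  let RH := Localization.Away (algebraMap R₀ R H)
  let L := Localization.Away H
  intro z
  obtain ⟨⟨r, ⟨_, n, rfl⟩⟩, hz⟩ := IsLocalization.surj (Submonoid.powers (algebraMap R₀ R H)) z
  obtain ⟨e, he⟩ := hgen r
  have hmem : ∀ c ∈ Algebra.adjoin S (Set.range (algebraMap R₀ R)),
      algebraMap R RH c ∈ (Psi (R := R) (S := S) (S₀ := S₀) H).range := by
    intro c hc
    induction hc using Algebra.adjoin_induction with
    | mem c hc =>
      obtain ⟨a, rfl⟩ := hc
      exact ⟨(1 : S) ⊗ₜ[S₀] algebraMap R₀ L a, (Psi_tmul_algebraMap H 1 a).trans (by rw [map_one, one_mul])⟩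
    | algebraMap s => rw [← IsScalarTower.algebraMap_apply]; exact Subalgebra.algebraMap_mem _ s
    | add a b _ _ ha hb => rw [map_add]; exact add_mem ha hb
    | mul a b _ _ ha hb => rw [map_mul]; exact mul_mem ha hb
  obtain ⟨w, hw : Psi (R := R) (S := S) (S₀ := S₀) H w = _⟩ := hmem _ he
  refine ⟨w * ((1 : S) ⊗ₜ[S₀] (IsLocalization.Away.invSelf (S := L) H ^ (e + n))), ?_⟩
  have hinv : Psi (R := R) (S := S) (S₀ := S₀) H ((1 : S) ⊗ₜ[S₀] (IsLocalization.Away.invSelf (S := L) H ^ (e + n))) *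
      algebraMap R RH (algebraMap R₀ R H ^ (e + n)) = 1 := by
    have h1 : algebraMap R RH (algebraMap R₀ R H ^ (e + n)) =
        Psi (R := R) (S := S) (S₀ := S₀) H ((1 : S) ⊗ₜ[S₀] algebraMap R₀ L (H ^ (e + n))) := by
      rw [Psi_tmul_algebraMap, map_one, one_mul, map_pow (algebraMap R₀ R)]
    rw [h1, ← map_mul, Algebra.TensorProduct.tmul_mul_tmul, one_mul, map_pow (algebraMap R₀ L), ← mul_pow,
      mul_comm (IsLocalization.Away.invSelf (S := L) H), IsLocalization.Away.mul_invSelf, one_pow]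
    exact map_one _
  have hu : IsUnit (algebraMap R RH (algebraMap R₀ R H ^ (e + n))) := ⟨⟨_, _, (mul_comm _ _).trans hinv, hinv⟩, rfl⟩
  refine hu.mul_right_cancel ?_
  rw [map_mul, mul_assoc, hinv, mul_one, hw, map_mul, map_pow, map_pow, pow_add, ← hz,
    map_pow (algebraMap R RH)]
  ring

section Kernel

/-- The invariant idempotent generating the kernel vanishes. -/
theorem psi_injective (hG : IsLinearlyReductive k A) (hequiv : IsEquiv k A S R)
    (hS₀i : Function.Injective (algebraMap S₀ S)) (hS₀ : (IsScalarTower.toAlgHom k S₀ S).range = GLin.invariants k A S)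
    (hR₀i : Function.Injective (algebraMap R₀ R)) (hR₀ : (IsScalarTower.toAlgHom k R₀ R).range = GLin.invariants k A R)
    (H : R₀) [Algebra.Etale S₀ (Localization.Away H)] [Algebra.Etale S (Localization.Away (algebraMap R₀ R H))]
    (hsurj : Function.Surjective (Psi (R := R) (S := S) (S₀ := S₀) H)) :
    Function.Injective (Psi (R := R) (S := S) (S₀ := S₀) H) := by
  classical
  obtain ⟨α, hα, h1⟩ := exists_integral hG
  let RH := Localization.Away (algebraMap R₀ R H)
  let L := Localization.Away H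
  let T := S ⊗[S₀] L
  let Ψ := Psi (R := R) (S := S) (S₀ := S₀) H
  letI : Algebra T RH := Ψ.toRingHom.toAlgebra
  have : IsScalarTower S T RH := IsScalarTower.of_algebraMap_eq fun s => (Ψ.commutes s).symm
  have : IsNoetherianRing S := Algebra.FiniteType.isNoetherianRing k S
  have : Algebra.FiniteType S T := inferInstance
  have : IsNoetherianRing T := Algebra.FiniteType.isNoetherianRing S T
  have hfe : Algebra.FormallyEtale T RH := Algebra.FormallyEtale.of_restrictScalars (R := S)
  have hidem : IsIdempotentElem (RingHom.ker (algebraMap T RH)) :=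
    (Algebra.FormallyEtale.iff_of_surjective hsurj).1 hfe
  obtain ⟨e, he, hker⟩ := (Ideal.isIdempotentElem_iff_of_fg _ (IsNoetherian.noetherian _)).1 hidem
  have hemem : ∀ z : T, Ψ z = 0 → ∃ d, z = d * e := fun z hz => by
    have h : z ∈ RingHom.ker (algebraMap T RH) := RingHom.mem_ker.2 hz
    rw [hker] at h
    obtain ⟨d, hd⟩ := Ideal.mem_span_singleton'.1 h
    exact ⟨d, hd.symm⟩
  have hee : ∀ z : T, Ψ z = 0 → e * z = z := fun z hz => by
    obtain ⟨d, rfl⟩ := hemem z hz
    rw [mul_left_comm, he.eq]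
  have hpe : Ψ e = 0 := by
    have h : e ∈ RingHom.ker (algebraMap T RH) := hker ▸ Ideal.mem_span_singleton_self e
    exact h
  -- translations
  let actS : (A →ₐ[k] k) → (S →ₐ[S₀] S) := fun g =>
    { (actAlgHom (R := S) g).toRingHom with
      commutes' := fun a => actAlgHom_of_mem_invariants g (hS₀ ▸ ⟨a, rfl⟩) }
  let σ : (A →ₐ[k] k) → (T →ₐ[S₀] T) := fun g => Algebra.TensorProduct.map (actS g) (AlgHom.id S₀ L)
  have hσker : ∀ g z, Ψ z = 0 → Ψ (σ g z) = 0 := fun g z hz => by
    obtain ⟨τ, hτ⟩ := exists_tau hR₀ H g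
    have key : ∀ z, Ψ (σ g z) = τ (Ψ z) := by
      intro z
      induction z using TensorProduct.induction_on with
      | zero => simp
      | add a b ha hb => simp only [map_add, ha, hb]
      | tmul s l =>
        have h1 : ∀ l, τ (Ψ ((1 : S) ⊗ₜ[S₀] l)) = Ψ ((1 : S) ⊗ₜ[S₀] l) := by
          have h2 : τ.comp (Ψ.toRingHom.comp (Algebra.TensorProduct.includeRight : L →ₐ[S₀] T).toRingHom) =
              Ψ.toRingHom.comp (Algebra.TensorProduct.includeRight : L →ₐ[S₀] T).toRingHom := by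
            refine IsLocalization.ringHom_ext (Submonoid.powers H) (RingHom.ext fun a => ?_)
            show τ (Ψ ((1 : S) ⊗ₜ[S₀] algebraMap R₀ L a)) = Ψ ((1 : S) ⊗ₜ[S₀] algebraMap R₀ L a)
            rw [Psi_tmul_algebraMap, map_one, one_mul, hτ, actAlgHom_of_mem_invariants g (hR₀ ▸ ⟨a, rfl⟩)]
          exact fun l => RingHom.congr_fun h2 l
        have h3 : ∀ s : S, Ψ (s ⊗ₜ[S₀] (1 : L)) = algebraMap R RH (algebraMap S R s) := fun s => by
          rw [← map_one (algebraMap R₀ L), Psi_tmul_algebraMap, map_one, mul_one]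
        rw [show s ⊗ₜ[S₀] l = (s ⊗ₜ[S₀] (1 : L)) * ((1 : S) ⊗ₜ[S₀] l) by
          rw [Algebra.TensorProduct.tmul_mul_tmul, mul_one, one_mul], map_mul (σ g)]
        rw [map_mul, map_mul, map_mul, show σ g (s ⊗ₜ[S₀] (1 : L)) = actS g s ⊗ₜ[S₀] (1 : L) from rfl,
          show σ g ((1 : S) ⊗ₜ[S₀] l) = (1 : S) ⊗ₜ[S₀] l by
            show actS g 1 ⊗ₜ[S₀] l = _
            rw [map_one],
          h1, h3, h3, hτ, hequiv.actAlgHom_algebraMap]
        rfl
    rw [key, hz, map_zero]
  have hσinv : ∀ g z, σ g (σ (g.comp (HopfAlgebra.antipodeAlgHom k A)) z) = z := fun g z => by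
    induction z using TensorProduct.induction_on with
    | zero => simp
    | add a b ha hb => simp only [map_add, ha, hb]
    | tmul s l =>
      simp only [σ, Algebra.TensorProduct.map_tmul, AlgHom.id_apply]
      exact congrArg (· ⊗ₜ[S₀] l) (actAlgHom_inv_apply g s)
  have hfix : ∀ g, σ g e = e := fun g => by
    have h1 := hee _ (hσker g e hpe)
    have h2 := hee _ (hσker (g.comp (HopfAlgebra.antipodeAlgHom k A)) e hpe)
    have h3 := congrArg (σ g) h2
    rw [map_mul, hσinv, mul_comm] at h3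
    exact h1.symm.trans h3
  -- the coaction
  let incl : S →ₐ[k] T := (Algebra.TensorProduct.includeLeft : S →ₐ[S] T).restrictScalars k
  let cS : S →ₐ[k] T ⊗[k] A :=
    (Algebra.TensorProduct.map incl (AlgHom.id k A)).comp (GLin.coactAlgHom k A S)
  let cS' : S →ₐ[S₀] T ⊗[k] A :=
    { cS.toRingHom with
      commutes' := fun a => by
        show cS (algebraMap S₀ S a) = _
        rw [AlgHom.comp_apply, GLin.coactAlgHom_apply,
          (GLin.mem_invariants_iff k A S _).1 (hS₀ ▸ ⟨a, rfl⟩ : algebraMap S₀ S a ∈ GLin.invariants k A S),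
          Algebra.TensorProduct.map_tmul, map_one]
        rfl }
  let cL : L →ₐ[S₀] T ⊗[k] A :=
    (Algebra.TensorProduct.includeLeft : T →ₐ[S₀] T ⊗[k] A).comp Algebra.TensorProduct.includeRight
  let co : T →ₐ[S₀] T ⊗[k] A := Algebra.TensorProduct.lift cS' cL fun a b => mul_comm (cS' a) (cL b)
  have hco : ∀ (β : A →ₗ[k] k) (s : S) (l : L),
      sliceR β (co (s ⊗ₜ[S₀] l)) = Groth.Agent.HopfLib.hit β s ⊗ₜ[S₀] l := fun β s l => by
    refine (sliceR_map_mul incl β (Comod.coact (k := k) (A := A) s) ((1 : S) ⊗ₜ[S₀] l)).trans ?_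
    show (Groth.Agent.HopfLib.hit β s ⊗ₜ[S₀] (1 : L)) * ((1 : S) ⊗ₜ[S₀] l) = _
    rw [Algebra.TensorProduct.tmul_mul_tmul, mul_one, one_mul]
  have hcoσ : ∀ (g : A →ₐ[k] k) (z : T), sliceR g.toLinearMap (co z) = σ g z := fun g z => by
    induction z using TensorProduct.induction_on with
    | zero => rw [map_zero, map_zero, map_zero]
    | add a b ha hb => simp only [map_add] at ha hb ⊢; rw [ha, hb]
    | tmul s l =>
      rw [hco, ← act_eq_hit, ← actAlgHom_apply]
      rfl
  have hαe : sliceR α (co e) = e := by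
    refine sub_eq_zero.1 ((Module.forall_dual_apply_eq_zero_iff k _).1 fun φ => ?_)
    have hcomm : ∀ (β : A →ₗ[k] k) (t : T ⊗[k] A), φ (sliceR β t) = β (sliceL φ t) := fun β t => by
      induction t using TensorProduct.induction_on with
      | zero => simp
      | add p q hp hq => simp only [map_add, hp, hq]
      | tmul p q => simp [mul_comm]
    have ha : sliceL φ (co e) = φ e • (1 : A) := by
      refine sub_eq_zero.1 (by_contra fun hne => ?_)
      obtain ⟨g, hg⟩ := exists_algHom_ne_zero (k := k) (fun hn => hne hn.eq_zero)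
      refine hg ?_
      rw [map_sub, map_smul, map_one, ← AlgHom.toLinearMap_apply, ← hcomm, hcoσ, hfix, smul_eq_mul, mul_one, sub_self]
    rw [map_sub, hcomm, ha, map_smul, h1, smul_eq_mul, mul_one, sub_self]
  have hrange : ∀ z : T, ∃ l : L, sliceR α (co z) = (1 : S) ⊗ₜ[S₀] l := fun z => by
    induction z using TensorProduct.induction_on with
    | zero => exact ⟨0, by simp⟩
    | add a b ha hb =>
      obtain ⟨la, hla⟩ := ha
      obtain ⟨lb, hlb⟩ := hb
      exact ⟨la + lb, by rw [map_add, map_add, hla, hlb, TensorProduct.tmul_add]⟩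
    | tmul s l =>
      have hs := reynolds_mem_invariants hα h1 s
      rw [← hS₀] at hs
      obtain ⟨a, ha⟩ := hs
      refine ⟨a • l, ?_⟩
      rw [hco, TensorProduct.tmul_smul, TensorProduct.smul_tmul', Algebra.smul_def, mul_one]
      exact congrArg (· ⊗ₜ[S₀] l) ha.symm
  obtain ⟨l, hl⟩ := hrange e
  rw [hαe] at hl
  have hLinj : l = 0 := by
    have h0 : Ψ ((1 : S) ⊗ₜ[S₀] l) = 0 := hl ▸ hpe
    obtain ⟨⟨a, ⟨_, n, rfl⟩⟩, ha⟩ := IsLocalization.surj (Submonoid.powers H) l
    have h2 : Ψ ((1 : S) ⊗ₜ[S₀] algebraMap R₀ L a) = 0 := by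
      rw [← ha, ← one_mul (1 : S), ← Algebra.TensorProduct.tmul_mul_tmul, map_mul, h0, zero_mul]
    rw [Psi_tmul_algebraMap, map_one, one_mul,
      IsLocalization.map_eq_zero_iff (Submonoid.powers (algebraMap R₀ R H)) RH] at h2
    obtain ⟨⟨_, m, rfl⟩, hm⟩ := h2
    have h3 : H ^ m * a = 0 := hR₀i (by rw [map_mul, map_pow, map_zero]; exact hm)
    have h4 : algebraMap R₀ L (H ^ m) * (l * algebraMap R₀ L (H ^ n)) = 0 := by rw [ha, ← map_mul, h3, map_zero]
    rw [((IsLocalization.Away.algebraMap_isUnit (S := L) H).pow m |> fun h => by rwa [← map_pow] at h :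
      IsUnit (algebraMap R₀ L (H ^ m))).mul_right_eq_zero] at h4
    rwa [((IsLocalization.Away.algebraMap_isUnit (S := L) H).pow n |> fun h => by rwa [← map_pow] at h :
      IsUnit (algebraMap R₀ L (H ^ n))).mul_left_eq_zero] at h4
  refine (injective_iff_map_eq_zero _).2 fun z hz => ?_
  rw [← hee z hz, hl, hLinj, TensorProduct.tmul_zero, zero_mul]

end Kernel

/-- The strongly étale neighbourhood. -/
theorem exists_strongly_etale_nhd (hG : IsLinearlyReductive k A) (hequiv : IsEquiv k A S R)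
    (hS₀i : Function.Injective (algebraMap S₀ S)) (hS₀ : (IsScalarTower.toAlgHom k S₀ S).range = GLin.invariants k A S)
    (hR₀i : Function.Injective (algebraMap R₀ R)) (hR₀ : (IsScalarTower.toAlgHom k R₀ R).range = GLin.invariants k A R)
    (x : R →ₐ[k] k) (m : Ideal R) [m.IsMaximal] (hm : m = RingHom.ker x.toRingHom)
    (het : Algebra.IsEtaleAt S m)
    (hy : GLin.IsClosedOrbit k A (x.comp (IsScalarTower.toAlgHom k S R)))
    (hinj : ∀ g : A →ₐ[k] k, GLin.actPt k g (x.comp (IsScalarTower.toAlgHom k S R)) = x.comp (IsScalarTower.toAlgHom k S R) →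
      GLin.actPt k g x = x) :
    ∃ (f : R₀) (g : S₀), x (algebraMap R₀ R (f * algebraMap S₀ R₀ g)) ≠ 0 ∧
      (∀ P : Ideal S, P.IsPrime → algebraMap S₀ S g ∉ P →
        ∃ Q : Ideal R, Q.IsPrime ∧ algebraMap R₀ R (f * algebraMap S₀ R₀ g) ∉ Q ∧ Q.comap (algebraMap S R) = P) ∧
      (∀ (Q : Ideal R) [Q.IsPrime], algebraMap R₀ R (f * algebraMap S₀ R₀ g) ∉ Q → Algebra.IsEtaleAt S Q) ∧
      (∀ x' : R →ₐ[k] k, x' (algebraMap R₀ R (f * algebraMap S₀ R₀ g)) ≠ 0 → GLin.IsClosedOrbit k A x' →
        GLin.IsClosedOrbit k A (x'.comp (IsScalarTower.toAlgHom k S R))) ∧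
      (∀ (q : Ideal R₀) [q.IsPrime], f * algebraMap S₀ R₀ g ∉ q → Algebra.IsEtaleAt S₀ q) ∧
      (∀ z : S ⊗[S₀] R₀, Algebra.TensorProduct.productMap (IsScalarTower.toAlgHom S₀ S R) (IsScalarTower.toAlgHom S₀ R₀ R) z = 0 →
        ∃ n : ℕ, ((1 : S) ⊗ₜ[S₀] (f * algebraMap S₀ R₀ g)) ^ n * z = 0) ∧
      (∀ r : R, ∃ (n : ℕ) (z : S ⊗[S₀] R₀),
        Algebra.TensorProduct.productMap (IsScalarTower.toAlgHom S₀ S R) (IsScalarTower.toAlgHom S₀ R₀ R) z =
          algebraMap R₀ R (f * algebraMap S₀ R₀ g) ^ n * r) := by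
  classical
  obtain ⟨H, hHx, hetR, hetS₀, hgen⟩ := exists_nhd hG hequiv hS₀i hS₀ hR₀i hR₀ x m hm het hy hinj
  have : IsNoetherianRing S := Algebra.FiniteType.isNoetherianRing k S
  have : Algebra.FiniteType S R := Algebra.FiniteType.of_restrictScalars_finiteType k S R
  have : Algebra.FinitePresentation S R := Algebra.FinitePresentation.of_finiteType.1 ‹_›
  let HR := algebraMap R₀ R H
  let RH := Localization.Away HR
  let L := Localization.Away H
  let y := x.comp (IsScalarTower.toAlgHom k S R)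
  have hψs := psi_surjective (R := R) (S := S) (S₀ := S₀) H hgen
  have hψi := psi_injective hG hequiv hS₀i hS₀ hR₀i hR₀ H hψs
  -- the image is open and stable
  have hopen : IsOpen (Set.range (PrimeSpectrum.comap (algebraMap S RH))) :=
    (PrimeSpectrum.isOpenMap_comap_of_hasGoingDown_of_finitePresentation).isOpen_range
  let I : Ideal S := PrimeSpectrum.vanishingIdeal (Set.range (PrimeSpectrum.comap (algebraMap S RH)))ᶜ
  have hI : ∀ g : A →ₐ[k] k, ∀ s ∈ I, actAlgHom (R := S) g s ∈ I := by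
    intro g s hs
    rw [PrimeSpectrum.mem_vanishingIdeal] at hs ⊢
    intro P hP
    by_contra hne
    refine hP ?_
    let P' : PrimeSpectrum S := PrimeSpectrum.comap (actAlgHom (R := S) g).toRingHom P
    obtain ⟨Q, hQ⟩ : P' ∈ Set.range (PrimeSpectrum.comap (algebraMap S RH)) := by
      by_contra hn
      exact hne (hs P' hn)
    obtain ⟨τ, hτ⟩ := exists_tau hR₀ H (g.comp (HopfAlgebra.antipodeAlgHom k A))
    refine ⟨PrimeSpectrum.comap τ Q, PrimeSpectrum.ext (Ideal.ext fun a => ?_)⟩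
    have h2 := SetLike.ext_iff.1 (congrArg PrimeSpectrum.asIdeal hQ) (actAlgHom (R := S) (g.comp (HopfAlgebra.antipodeAlgHom k A)) a)
    show τ (algebraMap S RH a) ∈ Q.asIdeal ↔ a ∈ P.asIdeal
    rw [IsScalarTower.algebraMap_apply S R RH, hτ, hequiv.actAlgHom_algebraMap, ← IsScalarTower.algebraMap_apply S R RH]
    refine h2.trans ?_
    show actAlgHom (R := S) g (actAlgHom (R := S) _ a) ∈ P.asIdeal ↔ _
    rw [actAlgHom_inv_apply]
  let xH : RH →+* k := IsLocalization.Away.lift HR (g := x.toRingHom) (isUnit_iff_ne_zero.2 hHx)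
  have hxH : ∀ r, xH (algebraMap R RH r) = x r := fun r => IsLocalization.Away.lift_eq HR _ r
  obtain ⟨gS, hgSinv, hgSI, hgSx⟩ := exists_invariant_mem_ne_zero hG I hI ((isClosedOrbit_iff y).1 hy) fun hle => by
    have hyP : (⟨RingHom.ker y.toRingHom, RingHom.ker_isPrime _⟩ : PrimeSpectrum S) ∈
        Set.range (PrimeSpectrum.comap (algebraMap S RH)) :=
      ⟨⟨RingHom.ker xH, RingHom.ker_isPrime _⟩, PrimeSpectrum.ext (Ideal.ext fun a => by
        show xH (algebraMap S RH a) = 0 ↔ y a = 0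
        rw [IsScalarTower.algebraMap_apply S R RH, hxH]; rfl)⟩
    obtain ⟨_, ⟨_, ⟨s, rfl⟩, rfl⟩, hs, hsub⟩ :=
      PrimeSpectrum.isBasis_basic_opens.exists_subset_of_mem_open hyP hopen
    exact hs (hle ((PrimeSpectrum.mem_vanishingIdeal _ _).2 fun P hP => by_contra fun h => hP (hsub h)))
  rw [← hS₀] at hgSinv
  obtain ⟨g, hg⟩ := hgSinv
  have hg' : algebraMap S₀ S g = gS := hg
  refine ⟨H, g, ?_, fun P hP hgP => ?_, fun Q hQ hhQ => ?_, fun x' hx' hx'c => ?_, fun q hq hhq => ?_,
    fun z hz => ?_, fun r => ?_⟩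
  · rw [map_mul, map_mul, ← IsScalarTower.algebraMap_apply S₀ R₀ R, IsScalarTower.algebraMap_apply S₀ S R, hg']
    exact mul_ne_zero hHx hgSx
  · obtain ⟨Q, hQ⟩ : (⟨P, hP⟩ : PrimeSpectrum S) ∈ Set.range (PrimeSpectrum.comap (algebraMap S RH)) := by
      by_contra hn
      exact hgP (hg' ▸ (PrimeSpectrum.mem_vanishingIdeal _ _).1 hgSI ⟨P, hP⟩ hn)
    have hQ' : ∀ s, algebraMap S RH s ∈ Q.asIdeal ↔ s ∈ P := fun s =>
      SetLike.ext_iff.1 (congrArg PrimeSpectrum.asIdeal hQ) s
    refine ⟨Q.asIdeal.comap (algebraMap R RH), Ideal.IsPrime.comap _, fun hh => ?_, Ideal.ext fun s => ?_⟩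
    · rw [Ideal.mem_comap, map_mul, map_mul] at hh
      rcases Q.isPrime.mem_or_mem hh with h | h
      · exact Q.isPrime.ne_top (Ideal.eq_top_of_isUnit_mem _ h (IsLocalization.Away.algebraMap_isUnit (S := RH) HR))
      · rw [← IsScalarTower.algebraMap_apply S₀ R₀ R, IsScalarTower.algebraMap_apply S₀ S R,
          ← IsScalarTower.algebraMap_apply S R RH, hQ'] at h
        exact hgP h
    · rw [Ideal.mem_comap, Ideal.mem_comap, ← IsScalarTower.algebraMap_apply S R RH, hQ']
  · refine Algebra.basicOpen_subset_etaleLocus_iff_etale.2 hetR (show (⟨Q, hQ⟩ : PrimeSpectrum R) ∈ PrimeSpectrum.basicOpen HR from fun hH => hhQ ?_)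
    rw [map_mul]
    exact Ideal.mul_mem_right _ _ hH
  · rw [map_mul, map_mul] at hx'
    have hH' : x' HR ≠ 0 := left_ne_zero_of_mul hx'
    let z := x'.comp (IsScalarTower.toAlgHom k S R)
    refine (isClosedOrbit_iff z).2 ?_
    obtain ⟨w, hzw, hw⟩ := exists_isClosedPtOrbit (A := A) z
    letI : Algebra S₀ k := (w.toRingHom.comp (algebraMap S₀ S)).toAlgebra
    let wS : S →ₐ[S₀] k := { w.toRingHom with commutes' := fun a => rfl }
    let xL : L →+* k := IsLocalization.Away.lift H (g := x'.toRingHom.comp (algebraMap R₀ R)) (isUnit_iff_ne_zero.2 hH')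
    let xL' : L →ₐ[S₀] k :=
      { xL with
        commutes' := fun a => by
          show xL (algebraMap S₀ L a) = w (algebraMap S₀ S a)
          rw [IsScalarTower.algebraMap_apply S₀ R₀ L, IsLocalization.Away.lift_eq,
            apply_eq_of_inOrbitClosure hzw (hS₀ ▸ ⟨a, rfl⟩)]
          show x' (algebraMap R₀ R (algebraMap S₀ R₀ a)) = x' (algebraMap S R (algebraMap S₀ S a))
          rw [← IsScalarTower.algebraMap_apply S₀ R₀ R, ← IsScalarTower.algebraMap_apply S₀ S R] }
    let u : S ⊗[S₀] L →ₐ[S₀] k := Algebra.TensorProduct.lift wS xL' fun _ _ => Commute.all _ _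
    let Ψe := RingEquiv.ofBijective (Psi (R := R) (S := S) (S₀ := S₀) H).toRingHom ⟨hψi, hψs⟩
    let v : R →+* k := u.toRingHom.comp (Ψe.symm.toRingHom.comp (algebraMap R RH))
    have hvS : ∀ s, v (algebraMap S R s) = w s := fun s => by
      have h1 : Ψe.symm (algebraMap R RH (algebraMap S R s)) = s ⊗ₜ[S₀] (1 : L) := Ψe.symm_apply_eq.2 (by
        show _ = Psi (R := R) H (s ⊗ₜ[S₀] (1 : L))
        rw [← map_one (algebraMap R₀ L), Psi_tmul_algebraMap, map_one, mul_one])
      show u (Ψe.symm (algebraMap R RH (algebraMap S R s))) = _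
      rw [h1]
      simp [u, wS]
    let x'' : R →ₐ[k] k := { v with commutes' := fun c => (by
      show v (algebraMap k R c) = c
      rw [IsScalarTower.algebraMap_apply k S R, hvS, AlgHom.commutes]; rfl) }
    have hx''0 : ∀ a : R₀, x'' (algebraMap R₀ R a) = x' (algebraMap R₀ R a) := fun a => by
      have h1 : Ψe.symm (algebraMap R RH (algebraMap R₀ R a)) = (1 : S) ⊗ₜ[S₀] algebraMap R₀ L a :=
        Ψe.symm_apply_eq.2 (by
          show _ = Psi (R := R) H ((1 : S) ⊗ₜ[S₀] algebraMap R₀ L a)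
          rw [Psi_tmul_algebraMap, map_one, one_mul])
      show u (Ψe.symm (algebraMap R RH (algebraMap R₀ R a))) = _
      rw [h1]
      simp [u, wS, xL', xL]
    have hcl : GLin.InOrbitClosure k A x'' x' :=
      ((isClosedOrbit_iff x').1 hx'c).inOrbitClosure_of_eq hG (AlgHom.ext fun r => by
        obtain ⟨a, ha⟩ := (SetLike.ext_iff.1 hR₀ _).2 r.2
        show x'' r = x' r
        rw [← ha]
        exact hx''0 a)
    have hwz : GLin.InOrbitClosure k A w z := by
      have hww : x''.comp (IsScalarTower.toAlgHom k S R) = w := AlgHom.ext hvS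
      intro s hs
      rw [RingHom.mem_ker, ← hww, hequiv.orbitHom_comp] at hs
      exact RingHom.mem_ker.2 (hcl (RingHom.mem_ker.2 hs))
    obtain ⟨g', hg''⟩ := hw z hwz
    exact fun z' hz' => exists_actPt_trans (exists_eq_actPt_symm ⟨g', hg''⟩)
      (hw z' (inOrbitClosure_trans hwz hz'))
  · have : Algebra.FinitePresentation S₀ L := inferInstance
    exact (Algebra.basicOpen_subset_etaleLocus_iff).2 inferInstance
      (show (⟨q, hq⟩ : PrimeSpectrum R₀) ∈ PrimeSpectrum.basicOpen H from fun hH => hhq (Ideal.mul_mem_right _ _ hH))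
  · let T₀ := S ⊗[S₀] R₀
    let a₀ : T₀ := (1 : S) ⊗ₜ[S₀] H
    let L' := Localization.Away a₀
    let toT : T₀ →ₐ[S] S ⊗[S₀] L :=
      Algebra.TensorProduct.map (AlgHom.id S S) (IsScalarTower.toAlgHom S₀ R₀ L)
    have hcomp : ∀ z : T₀, Psi (R := R) H (toT z) = algebraMap R RH
        (Algebra.TensorProduct.productMap (IsScalarTower.toAlgHom S₀ S R) (IsScalarTower.toAlgHom S₀ R₀ R) z) := by
      intro z
      induction z using TensorProduct.induction_on with
      | zero => simp
      | add a b ha hb => simp only [map_add, ha, hb]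
      | tmul s r =>
        show Psi (R := R) H (s ⊗ₜ[S₀] algebraMap R₀ L r) = _
        rw [Psi_tmul_algebraMap, Algebra.TensorProduct.productMap_apply_tmul]; rfl
    have h0 : toT z = 0 := hψi (by rw [hcomp, hz, map_zero, map_zero])
    let back : S ⊗[S₀] L →ₐ[S] L' := Algebra.TensorProduct.lift
      (Algebra.ofId S L')
      (IsLocalization.Away.liftAlgHom (S := L) H
        (f := ((IsScalarTower.toAlgHom S T₀ L').restrictScalars S₀).comp
          (Algebra.TensorProduct.includeRight : R₀ →ₐ[S₀] T₀))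
        (IsLocalization.Away.algebraMap_isUnit (S := L') a₀) : L →ₐ[S₀] L')
      fun _ _ => Commute.all _ _
    have hback : ∀ z : T₀, back (toT z) = algebraMap T₀ L' z := by
      intro z
      induction z using TensorProduct.induction_on with
      | zero => simp
      | add a b ha hb => simp only [map_add, ha, hb]
      | tmul s r =>
        show back (s ⊗ₜ[S₀] algebraMap R₀ L r) = _
        simp only [back, Algebra.TensorProduct.lift_tmul]
        rw [show s ⊗ₜ[S₀] r = (s ⊗ₜ[S₀] (1 : R₀)) * ((1 : S) ⊗ₜ[S₀] r) by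
          rw [Algebra.TensorProduct.tmul_mul_tmul, mul_one, one_mul], map_mul, Algebra.ofId_apply]
        refine congrArg₂ (· * ·) (IsScalarTower.algebraMap_apply S T₀ L' s) ?_
        exact liftAlgHom_algebraMap (L := L) H _ r
    have h1 := hback z
    rw [h0, map_zero, eq_comm, IsLocalization.map_eq_zero_iff (Submonoid.powers a₀) L'] at h1
    obtain ⟨⟨_, n, rfl⟩, hn⟩ := h1
    refine ⟨n, ?_⟩
    rw [show (1 : S) ⊗ₜ[S₀] (H * algebraMap S₀ R₀ g) = ((1 : S) ⊗ₜ[S₀] algebraMap S₀ R₀ g) * a₀ by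
      rw [Algebra.TensorProduct.tmul_mul_tmul, one_mul, mul_comm H], mul_pow, mul_assoc, hn, mul_zero]
  · obtain ⟨e, he⟩ := hgen r
    have hle : ∀ c ∈ Algebra.adjoin S (Set.range (algebraMap R₀ R)),
        ∃ z : S ⊗[S₀] R₀, Algebra.TensorProduct.productMap (IsScalarTower.toAlgHom S₀ S R) (IsScalarTower.toAlgHom S₀ R₀ R) z = c := by
      intro c hc
      induction hc using Algebra.adjoin_induction with
      | mem c hc => obtain ⟨a, rfl⟩ := hc; exact ⟨(1 : S) ⊗ₜ a, by simp⟩
      | algebraMap s => exact ⟨s ⊗ₜ 1, by simp⟩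
      | add a b _ _ ha hb =>
        obtain ⟨za, rfl⟩ := ha
        obtain ⟨zb, rfl⟩ := hb
        exact ⟨za + zb, map_add _ _ _⟩
      | mul a b _ _ ha hb =>
        obtain ⟨za, rfl⟩ := ha
        obtain ⟨zb, rfl⟩ := hb
        exact ⟨za * zb, map_mul _ _ _⟩
    obtain ⟨z, hz⟩ := hle _ he
    refine ⟨e, z * ((1 : S) ⊗ₜ (algebraMap S₀ R₀ g ^ e)), ?_⟩
    rw [map_mul, hz, Algebra.TensorProduct.productMap_apply_tmul, map_one, one_mul, map_mul, mul_pow,
      IsScalarTower.coe_toAlgHom', map_pow]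
    ring

end Groth.Agent.Luna8
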