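import Groth.Agent.Luna8.Basic
import Mathlib.RingTheory.Flat.Rank
import Mathlib.RingTheory.Unramified.Field
import Mathlib.RingTheory.TensorProduct.Quotient
import Mathlib.RingTheory.Ideal.Over

/-!
# The equivariant étale map is an isomorphism on the null fibre
-/

open TensorProduct HopfRep Coalgebra

universe u

namespace Groth.Agent.Luna8

open Groth.Agent.HopfLib

set_option linter.unusedSectionVars false
set_option maxHeartbeats 800000

theorem bijective_of_unique_point {k : Type u} [Field k] [IsAlgClosed k] {U : Type u} [CommRing U] [Algebra k U]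
    [Module.Finite k U] [Algebra.FormallyUnramified k U] (u : U →ₐ[k] k) (hu : ∀ v : U →ₐ[k] k, v = u) :
    Module.finrank k U = 1 := by
  have : IsReduced U := Algebra.FormallyUnramified.isReduced_of_field k U
  have : IsJacobsonRing U := isJacobsonRing_of_finiteType (A := k)
  have hinj : Function.Injective u := (injective_iff_map_eq_zero u).2 fun a ha => by
    by_contra hne
    obtain ⟨v, hv⟩ := exists_algHom_ne_zero (k := k) (fun h => hne h.eq_zero)
    exact hv (by rw [hu v]; exact ha)
  have hsurj : Function.Surjective u := fun c => ⟨algebraMap k U c, u.commutes c⟩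
  rw [(AlgEquiv.ofBijective u ⟨hinj, hsurj⟩).toLinearEquiv.finrank_eq, Module.finrank_self]

variable {k : Type u} [Field k] [IsAlgClosed k] {A : Type u} [CommRing A] [IsDomain A] [HopfAlgebra k A]
  [Algebra.FiniteType k A]
  {S : Type u} [CommRing S] [Algebra k S] [Algebra.FiniteType k S] [Comod k A S] [GLin.IsCoactAlg k A S]
  {R : Type u} [CommRing R] [Algebra k R] [Algebra.FiniteType k R] [Comod k A R] [GLin.IsCoactAlg k A R]
  [Algebra S R] [IsScalarTower k S R]

theorem fibre_iso (hG : IsLinearlyReductive k A) [Module.Finite S R]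
    (x : R →ₐ[k] k) (hy : IsClosedPtOrbit k A (x.comp (IsScalarTower.toAlgHom k S R)))
    (N : Ideal S) (M₀ : Set S) (hN : N = Ideal.span M₀) (hM₀ : ∀ s ∈ M₀, s ∈ GLin.invariants k A S)
    (hNy : N ≤ RingHom.ker (x.comp (IsScalarTower.toAlgHom k S R)))
    (hNinv : ∀ s ∈ GLin.invariants k A S, ∃ c : k, s - algebraMap k S c ∈ N)
    (F : R) (hFx : x F ≠ 0) [Algebra.Etale S (Localization.Away F)]
    (hpow : ∃ m : ℕ, ∀ r : R, ∃ r' : R, F ^ m * r - F ^ (m + 1) * r' ∈ N.map (algebraMap S R))
    (huniq : ∀ z : R →ₐ[k] k, z F ≠ 0 →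
      z.comp (IsScalarTower.toAlgHom k S R) = x.comp (IsScalarTower.toAlgHom k S R) → z = x) :
    (∀ t : Localization.Away F, ∃ s : S, t - algebraMap S _ s ∈ N.map (algebraMap S (Localization.Away F))) ∧
      ∀ s : S, algebraMap S (Localization.Away F) s ∈ N.map (algebraMap S (Localization.Away F)) → s ∈ N := by
  classical
  let Rf := Localization.Away F
  let NR := N.map (algebraMap S Rf)
  let B₀ := S ⧸ N
  let T := Rf ⧸ NR
  let y := x.comp (IsScalarTower.toAlgHom k S R)
  have hetT : Algebra.Etale B₀ T := by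
    have : Algebra.Etale B₀ (B₀ ⊗[S] Rf) := inferInstance
    exact Algebra.Etale.of_equiv (A := B₀ ⊗[S] Rf) (R := B₀)
      ((Algebra.TensorProduct.quotIdealMapEquivQuotTensor Rf N).symm)
  let q : R →ₐ[S] T := (Ideal.Quotient.mkₐ S NR).comp (IsScalarTower.toAlgHom S R Rf)
  have hFu : IsUnit (q F) :=
    (IsLocalization.Away.algebraMap_isUnit (S := Rf) F).map (Ideal.Quotient.mk NR)
  have hNq : N.map (algebraMap S R) ≤ RingHom.ker q := Ideal.map_le_iff_le_comap.2 fun s hs => by
    rw [Ideal.mem_comap, RingHom.mem_ker, AlgHom.commutes]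
    exact Ideal.Quotient.eq_zero_iff_mem.2 (Ideal.mem_map_of_mem _ hs)
  have hq : Function.Surjective q := by
    intro t
    obtain ⟨w, rfl⟩ := Ideal.Quotient.mk_surjective t
    obtain ⟨⟨r, ⟨_, n, rfl⟩⟩, hw⟩ := IsLocalization.surj (Submonoid.powers F) w
    obtain ⟨m, hm⟩ := hpow
    induction n generalizing r w with
    | zero =>
      refine ⟨r, ?_⟩
      show Ideal.Quotient.mk NR (algebraMap R Rf r) = _
      rw [← hw]; simp
    | succ n ih =>
      obtain ⟨r', hr'⟩ := hm r
      have h1 : q r = q F * q r' := by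
        refine (hFu.pow m).mul_left_cancel ?_
        rw [← map_pow, ← map_mul, ← map_mul, ← map_mul, ← sub_eq_zero, ← map_sub, ← mul_assoc, ← pow_succ]
        exact hNq hr'
      have h2 : q F * (Ideal.Quotient.mk NR w * q F ^ n) = q F * q r' := by
        rw [← h1, show q r = Ideal.Quotient.mk NR (algebraMap R Rf r) from rfl, ← hw, map_mul, map_pow, map_pow, pow_succ]
        show _ = _ * (q F ^ n * q F)
        ring
      obtain ⟨a, ha⟩ := ih (w := (IsLocalization.Away.invSelf (S := Rf) F) ^ n * algebraMap R Rf r') (r := r') (by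
        show _ * algebraMap R Rf (F ^ n) = _
        rw [map_pow, mul_comm, ← mul_assoc, ← mul_pow,
          IsLocalization.Away.mul_invSelf, one_pow, one_mul])
      refine ⟨a, ha.trans ((hFu.pow n).mul_right_cancel ?_)⟩
      rw [hFu.mul_left_cancel h2, map_mul, map_pow, show q r' = Ideal.Quotient.mk NR (algebraMap R Rf r') from rfl,
        show q F = Ideal.Quotient.mk NR (algebraMap R Rf F) from rfl, mul_assoc, mul_comm _ (_ ^ n), ← mul_assoc,
        ← mul_pow, ← map_mul, mul_comm (IsLocalization.Away.invSelf (S := Rf) F),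
        IsLocalization.Away.mul_invSelf, map_one, one_pow, one_mul]
  have hfinS : Module.Finite S T := Module.Finite.of_surjective q.toLinearMap hq
  have hfin : Module.Finite B₀ T := Module.Finite.of_restrictScalars_finite S B₀ T
  -- the rank at a rational point
  have hrank : ∀ (z : B₀ →ₐ[k] k),
      z.comp (Ideal.Quotient.mkₐ k N) = y → Module.rankAtStalk (R := B₀) T ⟨RingHom.ker z, RingHom.ker_isPrime _⟩ = 1 := by
    intro z hz
    let : Algebra B₀ k := z.toRingHom.toAlgebra
    have : IsScalarTower k B₀ k := IsScalarTower.of_algebraMap_eq fun c => (z.commutes c).symm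
    let U := k ⊗[B₀] T
    let ι : R →+* U := (Algebra.TensorProduct.includeRight : T →ₐ[B₀] U).toRingHom.comp q.toRingHom
    have hιS : ∀ s : S, ι (algebraMap S R s) = algebraMap k U (y s) := fun s => by
      rw [Algebra.TensorProduct.algebraMap_apply, Algebra.algebraMap_self_apply]
      show (1 : k) ⊗ₜ[B₀] q (algebraMap S R s) = y s ⊗ₜ[B₀] (1 : T)
      rw [AlgHom.commutes, show algebraMap S T s = algebraMap B₀ T (Ideal.Quotient.mk N s) from rfl,
        ← Algebra.TensorProduct.tmul_one_eq_one_tmul, ← hz]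
      rfl
    let ιk : R →ₐ[k] U :=
      { ι with commutes' := fun c => (by
          show ι (algebraMap k R c) = _
          rw [IsScalarTower.algebraMap_apply k S R, hιS, AlgHom.commutes]; rfl) }
    have hext : ∀ v v' : U →ₐ[k] k, v.comp ιk = v'.comp ιk → v = v' := fun v v' h => by
      refine AlgHom.ext fun w => ?_
      induction w using TensorProduct.induction_on with
      | zero => simp
      | add a b ha hb => rw [map_add, map_add, ha, hb]
      | tmul c t =>
        obtain ⟨r, rfl⟩ := hq t
        rw [show c ⊗ₜ[B₀] q r = algebraMap k U c * ιk r by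
          rw [Algebra.TensorProduct.algebraMap_apply, Algebra.algebraMap_self_apply]
          show _ = (c ⊗ₜ[B₀] (1 : T)) * ((1 : k) ⊗ₜ[B₀] q r)
          rw [Algebra.TensorProduct.tmul_mul_tmul, mul_one, one_mul],
          map_mul, map_mul, AlgHom.commutes, AlgHom.commutes]
        exact congrArg (_ * ·) (AlgHom.congr_fun h r)
    have hv : ∀ v : U →ₐ[k] k, v.comp ιk = x := fun v => by
      refine huniq _ ?_ (AlgHom.ext fun s => ?_)
      · exact ((hFu.map (Algebra.TensorProduct.includeRight : T →ₐ[B₀] U).toRingHom).map v.toRingHom).ne_zero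
      · show v (ι (algebraMap S R s)) = y s
        rw [hιS, AlgHom.commutes]; rfl
    let xf : Rf →+* k := IsLocalization.Away.lift F (g := x.toRingHom) (isUnit_iff_ne_zero.2 hFx)
    have hxf : ∀ r, xf (algebraMap R Rf r) = x r := fun r => IsLocalization.Away.lift_eq F _ r
    let xT : T →+* k := Ideal.Quotient.lift NR xf fun a ha => RingHom.mem_ker.1 (Ideal.map_le_iff_le_comap.2
      (fun s hs => by
        show xf (algebraMap S Rf s) = 0
        rw [IsScalarTower.algebraMap_apply S R Rf, hxf]
        exact hNy hs) ha)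
    let xT' : T →ₐ[B₀] k := { xT with commutes' := fun b => (by
      obtain ⟨s, rfl⟩ := Ideal.Quotient.mk_surjective b
      show xf (algebraMap S Rf s) = z (Ideal.Quotient.mk N s)
      rw [IsScalarTower.algebraMap_apply S R Rf, hxf]
      exact (AlgHom.congr_fun hz s).symm) }
    let u : U →ₐ[k] k := Algebra.TensorProduct.lift (AlgHom.id k k) xT' fun _ _ => Commute.all _ _
    have : Module.Finite k U := inferInstance
    have : Algebra.FormallyUnramified k U := inferInstance
    have hU : Module.finrank k U = 1 := by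
      have h1 := bijective_of_unique_point (U := U) u fun v => hext _ _ ((hv v).trans (hv u).symm)
      convert h1 using 3
    have h := Module.rankAtStalk_baseChange (R := B₀) (M := T) (S := k) ⟨⊥, Ideal.isPrime_bot⟩
    rw [Module.rankAtStalk_eq_finrank_of_free] at h
    refine Eq.trans ?_ (h.symm.trans hU)
    exact congrArg _ (PrimeSpectrum.ext (Ideal.ext fun b => by
      show z b = 0 ↔ algebraMap B₀ k b ∈ (⊥ : Ideal k)
      rw [Ideal.mem_bot]; rfl))
  -- rank one everywhere
  have hNz : ∀ (z : S →ₐ[k] k), N ≤ RingHom.ker z → N ≤ RingHom.ker (GLin.orbitHom k A z) := fun z hz => by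
    rw [hN, Ideal.span_le]
    intro s hs
    rw [SetLike.mem_coe, RingHom.mem_ker, orbitHom_of_mem_invariants z (hM₀ s hs),
      show z s = 0 from hz (hN ▸ Ideal.subset_span hs), map_zero]
  have hone : Module.rankAtStalk (R := B₀) T = 1 := by
    funext P
    obtain ⟨z, hz⟩ := exists_algHom_le_ker (k := k) P.isPrime.ne_top
    let zS : S →ₐ[k] k := z.comp (Ideal.Quotient.mkₐ k N)
    have hzN : N ≤ RingHom.ker zS := fun s hs => by
      rw [RingHom.mem_ker, AlgHom.comp_apply, show Ideal.Quotient.mkₐ k N s = 0 from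
        Ideal.Quotient.eq_zero_iff_mem.2 hs, map_zero]
    have hcl : GLin.InOrbitClosure k A zS y := by
      refine hy.inOrbitClosure_of_eq hG (AlgHom.ext fun s => ?_)
      obtain ⟨c, hc⟩ := hNinv s s.2
      have h1 := hzN hc
      have h2 := hNy hc
      rw [RingHom.mem_ker, map_sub, AlgHom.commutes, sub_eq_zero] at h1 h2
      show zS s = y s
      rw [h1, h2]
    let o : B₀ →+* A := Ideal.Quotient.lift N (GLin.orbitHom k A zS).toRingHom fun s hs => hNz zS hzN hs
    let y0 : B₀ →ₐ[k] k := Ideal.Quotient.liftₐ N y fun s hs => hNy hs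
    let Pz : PrimeSpectrum B₀ := ⟨RingHom.ker o, RingHom.ker_isPrime o⟩
    have e1 := Module.rankAtStalk_eq_of_le_of_finite_of_flat (R := B₀) T
      (p := P) (q := ⟨RingHom.ker z, RingHom.ker_isPrime _⟩) hz
    have e2 := Module.rankAtStalk_eq_of_le_of_finite_of_flat (R := B₀) T
      (p := Pz) (q := ⟨RingHom.ker z, RingHom.ker_isPrime _⟩) (fun b hb => by
        obtain ⟨s, rfl⟩ := Ideal.Quotient.mk_surjective b
        exact (inOrbitClosure_refl (A := A) zS) hb)
    have e3 := Module.rankAtStalk_eq_of_le_of_finite_of_flat (R := B₀) T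
      (p := Pz) (q := ⟨RingHom.ker y0, RingHom.ker_isPrime _⟩) (fun b hb => by
        obtain ⟨s, rfl⟩ := Ideal.Quotient.mk_surjective b
        exact hcl hb)
    rw [e1, ← e2, e3]
    exact hrank y0 (AlgHom.ext fun s => rfl)
  have hb := Module.algebraMap_bijective_of_rankAtStalk hone
  refine ⟨fun t => ?_, fun s hs => ?_⟩
  · obtain ⟨b, hb'⟩ := hb.2 (Ideal.Quotient.mk NR t)
    obtain ⟨s, rfl⟩ := Ideal.Quotient.mk_surjective b
    exact ⟨s, Ideal.Quotient.eq.1 hb'.symm⟩
  · refine Ideal.Quotient.eq_zero_iff_mem.1 (hb.1 ?_)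
    rw [map_zero]
    exact Ideal.Quotient.eq_zero_iff_mem.2 hs

end Groth.Agent.Luna8
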