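import Mathlib

/-!
# Flat algebras which are trivial modulo an ideal are trivial modulo its powers
-/

open TensorProduct

universe u

namespace Groth.Agent.Luna8

variable {S T : Type u} [CommRing S] [CommRing T] [Algebra S T] (N : Ideal S)

theorem exists_sub_mem_pow (h : ∀ t : T, ∃ s : S, t - algebraMap S T s ∈ N.map (algebraMap S T)) :
    ∀ (j : ℕ) (t : T), ∃ s : S, t - algebraMap S T s ∈ (N ^ j).map (algebraMap S T) := by
  intro j
  induction j with
  | zero => intro t; exact ⟨0, by rw [pow_zero, Ideal.one_eq_top, Ideal.map_top]; trivial⟩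
  | succ j ih =>
    intro t
    obtain ⟨s, hs⟩ := ih t
    have key : ∀ w ∈ (N ^ j).map (algebraMap S T),
        ∃ a : S, w - algebraMap S T a ∈ (N ^ (j + 1)).map (algebraMap S T) := by
      intro w hw
      refine Submodule.span_induction (p := fun w _ => ∃ a : S, w - algebraMap S T a ∈ (N ^ (j + 1)).map (algebraMap S T))
        ?_ ?_ ?_ ?_ hw
      · rintro _ ⟨a, -, rfl⟩; exact ⟨a, by simp⟩
      · exact ⟨0, by simp⟩
      · rintro a b - - ⟨a', ha⟩ ⟨b', hb⟩
        exact ⟨a' + b', by rw [map_add, add_sub_add_comm]; exact add_mem ha hb⟩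
      · rintro c a ha' ⟨a', ha⟩
        obtain ⟨c', hc⟩ := h c
        refine ⟨c' * a', ?_⟩
        have e : c • a - algebraMap S T (c' * a') =
            algebraMap S T c' * (a - algebraMap S T a') + (c - algebraMap S T c') * a := by
          rw [smul_eq_mul, map_mul]; ring
        rw [e]
        refine add_mem (Ideal.mul_mem_left _ _ ha) ?_
        rw [Ideal.map_pow, pow_succ', ← Ideal.map_pow]
        exact Ideal.mul_mem_mul hc ha'
    obtain ⟨a, ha⟩ := key _ hs
    exact ⟨s + a, by rw [map_add, ← sub_sub]; exact ha⟩

theorem mem_pow_of_algebraMap_mem [Module.Flat S T]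
    (h : ∀ t : T, ∃ s : S, t - algebraMap S T s ∈ N.map (algebraMap S T))
    (h' : ∀ s : S, algebraMap S T s ∈ N.map (algebraMap S T) → s ∈ N) :
    ∀ (j : ℕ) (s : S), algebraMap S T s ∈ (N ^ j).map (algebraMap S T) → s ∈ N ^ j := by
  intro j
  induction j with
  | zero => intro s _; rw [pow_zero, Ideal.one_eq_top]; trivial
  | succ j ih =>
    intro s hs
    have hsj : s ∈ N ^ j := ih s (Ideal.map_mono (Ideal.pow_le_pow_right (Nat.le_succ j)) hs)
    let M : Submodule S S := N ^ j
    let P : Submodule S M := N • ⊤
    choose c hc using h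
    have hdiff : ∀ (t : T) (a : S), t - algebraMap S T a ∈ N.map (algebraMap S T) → ∀ m : M,
        (Submodule.Quotient.mk (c t • m) : M ⧸ P) = Submodule.Quotient.mk (a • m) := fun t a ha m => by
      rw [Submodule.Quotient.eq, ← sub_smul]
      refine Submodule.smul_mem_smul (h' _ ?_) trivial
      rw [map_sub, ← sub_sub_sub_cancel_left _ _ t]
      exact sub_mem ha (hc t)
    let F : M →ₗ[S] T →ₗ[S] M ⧸ P := LinearMap.mk₂ S (fun m t => Submodule.Quotient.mk (c t • m))
      (fun m m' t => by rw [smul_add, Submodule.Quotient.mk_add])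
      (fun a m t => by rw [smul_comm, Submodule.Quotient.mk_smul])
      (fun m t t' => by
        rw [← Submodule.Quotient.mk_add, ← add_smul]
        exact hdiff _ _ (by rw [map_add, add_sub_add_comm]; exact add_mem (hc t) (hc t')) m)
      (fun a m t => by
        rw [← Submodule.Quotient.mk_smul, smul_smul]
        exact hdiff _ _ (by
          rw [map_mul, Algebra.smul_def, ← mul_sub]; exact Ideal.mul_mem_left _ _ (hc t)) m)
    let Φ : M ⊗[S] T →ₗ[S] M ⧸ P := TensorProduct.lift F
    let μ : M ⊗[S] T →ₗ[S] T := (TensorProduct.lid S T).toLinearMap ∘ₗ (Submodule.subtype M).rTensor T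
    have hμ : Function.Injective μ :=
      (TensorProduct.lid S T).injective.comp
        (Module.Flat.rTensor_preserves_injective_linearMap _ M.injective_subtype)
    have key : ∀ w ∈ (N ^ (j + 1)).map (algebraMap S T), ∃ u : M ⊗[S] T, μ u = w ∧ Φ u = 0 := by
      intro w hw
      refine Submodule.span_induction (p := fun w _ => ∃ u : M ⊗[S] T, μ u = w ∧ Φ u = 0) ?_ ?_ ?_ ?_ hw
      · rintro _ ⟨a, ha, rfl⟩
        have ha' : a ∈ (P.map M.subtype : Submodule S S) := by
          rw [Submodule.map_smul'', Submodule.map_top, Submodule.range_subtype, smul_eq_mul, ← pow_succ']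
          exact ha
        obtain ⟨b, hb, rfl⟩ := ha'
        refine ⟨b ⊗ₜ 1, by simp [μ, Algebra.smul_def], ?_⟩
        show Submodule.Quotient.mk (c 1 • b) = 0
        exact (Submodule.Quotient.mk_eq_zero P).2 (Submodule.smul_mem _ _ hb)
      · exact ⟨0, map_zero _, map_zero _⟩
      · rintro a b - - ⟨u, hu, hu'⟩ ⟨v, hv, hv'⟩
        exact ⟨u + v, by rw [map_add, hu, hv], by rw [map_add, hu', hv', add_zero]⟩
      · rintro d a - ⟨u, hu, hu'⟩
        refine ⟨LinearMap.lTensor M (LinearMap.mulLeft S d) u, ?_, ?_⟩
        · rw [← hu, smul_eq_mul]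
          clear hu hu'
          induction u using TensorProduct.induction_on with
          | zero => simp
          | add p q hp hq => simp only [map_add, hp, hq, mul_add]
          | tmul p q => simp [μ, Algebra.smul_def, mul_left_comm]
        · have e : ∀ u, Φ (LinearMap.lTensor M (LinearMap.mulLeft S d) u) = c d • Φ u := fun u => by
            induction u using TensorProduct.induction_on with
            | zero => simp
            | add p q hp hq => simp only [map_add, hp, hq, smul_add]
            | tmul p q =>
              show Submodule.Quotient.mk (c (d * q) • p) = c d • Submodule.Quotient.mk (c q • p)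
              rw [← Submodule.Quotient.mk_smul, smul_smul]
              refine hdiff _ _ ?_ p
              have e : d * q - algebraMap S T (c d * c q) =
                  (d - algebraMap S T (c d)) * q + algebraMap S T (c d) * (q - algebraMap S T (c q)) := by
                rw [map_mul]; ring
              rw [e]
              exact add_mem (Ideal.mul_mem_right _ _ (hc d)) (Ideal.mul_mem_left _ _ (hc q))
          rw [e, hu', smul_zero]
    obtain ⟨u, hu, hu'⟩ := key _ hs
    have huv : u = (⟨s, hsj⟩ : M) ⊗ₜ[S] (1 : T) := hμ (by rw [hu]; simp [μ, Algebra.smul_def])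
    rw [huv] at hu'
    have h1 : (Submodule.Quotient.mk ((1 : S) • (⟨s, hsj⟩ : M)) : M ⧸ P) = 0 :=
      (hdiff 1 1 (by simp) _).symm.trans hu'
    rw [one_smul, Submodule.Quotient.mk_eq_zero] at h1
    have h2 : s ∈ P.map M.subtype := ⟨_, h1, rfl⟩
    rwa [Submodule.map_smul'', Submodule.map_top, Submodule.range_subtype, smul_eq_mul, ← pow_succ'] at h2

end Groth.Agent.Luna8
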