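import Groth.Agent.Luna8.Fibre
import Groth.Agent.Luna8.Thicken
import Groth.Agent.CAlgH.AlgebraizeEtale
import Groth.Agent.AdicRing.ComplBij

/-!
# Luna's fundamental lemma
-/

open TensorProduct HopfRep Coalgebra

universe u

namespace Groth.Agent.Luna8

open Groth.Agent.HopfLib

set_option linter.unusedSectionVars false
set_option maxHeartbeats 800000

/-- In a finite algebra over a field, powers of an element stabilise. -/
theorem exists_pow_stabilize {k : Type u} [Field k] {D : Type u} [CommRing D] [Algebra k D] [Module.Finite k D]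
    (a : D) : ∃ m : ℕ, ∀ d : D, ∃ e : D, a ^ m * d = a ^ (m + 1) * e := by
  have : IsArtinianRing D := IsArtinianRing.of_finite k D
  obtain ⟨m, hm⟩ := IsArtinian.range_smul_pow_stabilizes D a
  refine ⟨m, fun d => ?_⟩
  have h1 : a ^ m • d ∈ LinearMap.range (a ^ m • LinearMap.id : D →ₗ[D] D) := ⟨d, rfl⟩
  rw [hm (m + 1) (Nat.le_succ m)] at h1
  obtain ⟨e, he⟩ := h1
  exact ⟨e, by simpa using he.symm⟩

variable {k : Type u} [Field k] [IsAlgClosed k] {A : Type u} [CommRing A] [IsDomain A] [HopfAlgebra k A]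
  [Algebra.FiniteType k A]
  {S : Type u} [CommRing S] [Algebra k S] [Algebra.FiniteType k S] [Comod k A S] [GLin.IsCoactAlg k A S]
  {R : Type u} [CommRing R] [Algebra k R] [Algebra.FiniteType k R] [Comod k A R] [GLin.IsCoactAlg k A R]
  [Algebra S R] [IsScalarTower k S R] [Module.Finite S R]
  {S₀ : Type u} [CommRing S₀] [Algebra k S₀] [Algebra S₀ S] [IsScalarTower k S₀ S]
  {R₀ : Type u} [CommRing R₀] [Algebra k R₀] [Algebra R₀ R] [IsScalarTower k R₀ R]
  [Algebra S₀ R₀] [Algebra S₀ R] [IsScalarTower S₀ S R] [IsScalarTower S₀ R₀ R]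

/-- A neighbourhood on which the map is an isomorphism modulo the invariant maximal ideal. -/
theorem exists_good (hG : IsLinearlyReductive k A) (hequiv : IsEquiv k A S R)
    (hS₀i : Function.Injective (algebraMap S₀ S)) (hS₀ : (IsScalarTower.toAlgHom k S₀ S).range = GLin.invariants k A S)
    (hR₀i : Function.Injective (algebraMap R₀ R)) (hR₀ : (IsScalarTower.toAlgHom k R₀ R).range = GLin.invariants k A R)
    (x : R →ₐ[k] k) (hx : GLin.IsClosedOrbit k A x) (m : Ideal R) [m.IsMaximal] (hm : m = RingHom.ker x.toRingHom)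
    (het : Algebra.IsEtaleAt S m)
    (hinj : ∀ g : A →ₐ[k] k, GLin.actPt k g (x.comp (IsScalarTower.toAlgHom k S R)) = x.comp (IsScalarTower.toAlgHom k S R) →
      GLin.actPt k g x = x) :
    ∃ f : R₀, x (algebraMap R₀ R f) ≠ 0 ∧ Algebra.Etale S (Localization.Away (algebraMap R₀ R f)) ∧
      (∀ t : Localization.Away (algebraMap R₀ R f), ∃ s : S, t - algebraMap S _ s ∈
        ((RingHom.ker ((x.comp (IsScalarTower.toAlgHom k S R)).toRingHom.comp (algebraMap S₀ S))).map
          (algebraMap S₀ S)).map (algebraMap S (Localization.Away (algebraMap R₀ R f)))) ∧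
      ∀ s : S, algebraMap S (Localization.Away (algebraMap R₀ R f)) s ∈
        ((RingHom.ker ((x.comp (IsScalarTower.toAlgHom k S R)).toRingHom.comp (algebraMap S₀ S))).map
          (algebraMap S₀ S)).map (algebraMap S (Localization.Away (algebraMap R₀ R f))) →
        s ∈ (RingHom.ker ((x.comp (IsScalarTower.toAlgHom k S R)).toRingHom.comp (algebraMap S₀ S))).map
          (algebraMap S₀ S) := by
  classical
  obtain ⟨α, hα, h1⟩ := exists_integral hG
  have hinvS : ∀ a : S₀, algebraMap S₀ S a ∈ GLin.invariants k A S := fun a => hS₀ ▸ ⟨a, rfl⟩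
  have hinvR : ∀ a : R₀, algebraMap R₀ R a ∈ GLin.invariants k A R := fun a => hR₀ ▸ ⟨a, rfl⟩
  have hliftS : ∀ s ∈ GLin.invariants k A S, ∃ a : S₀, algebraMap S₀ S a = s := fun s hs => by
    rw [← hS₀] at hs; exact hs
  have hliftR : ∀ r ∈ GLin.invariants k A R, ∃ a : R₀, algebraMap R₀ R a = r := fun r hr => by
    rw [← hR₀] at hr; exact hr
  have : IsNoetherianRing S := Algebra.FiniteType.isNoetherianRing k S
  have : Algebra.FinitePresentation S R :=
    Algebra.FinitePresentation.of_finiteType.1 inferInstance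
  let ι := IsScalarTower.toAlgHom k S R
  let y := x.comp ι
  have hxc : IsClosedPtOrbit k A x := (isClosedOrbit_iff x).1 hx
  have hy' : GLin.IsClosedOrbit k A y := (isClosedOrbit_iff_of_finite hequiv x).1 hx
  have hy : IsClosedPtOrbit k A y := (isClosedOrbit_iff y).1 hy'
  -- an invariant with étale non-vanishing locus
  have hIstab : ∀ g : A →ₐ[k] k, ∀ r ∈ nonEtaleIdeal S R, actAlgHom (R := R) g r ∈ nonEtaleIdeal S R :=
    fun g r hr => actAlgHom_mem_nonEtaleIdeal hequiv g hr
  have hne : ¬ nonEtaleIdeal S R ≤ RingHom.ker x := fun hle => by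
    obtain ⟨f, hf, hfet⟩ := Algebra.exists_etale_of_isEtaleAt (R := S) m
    refine hf ?_
    rw [hm]
    exact hle (mem_nonEtaleIdeal.2 (Algebra.basicOpen_subset_etaleLocus_iff_etale.2 hfet))
  obtain ⟨f₁R, hf₁inv, hf₁I, hf₁x⟩ := exists_invariant_mem_ne_zero hG _ hIstab hxc hne
  obtain ⟨f₁, rfl⟩ := hliftR _ hf₁inv
  -- the fibre in the invariant ring
  have hfin₀ : Module.Finite S₀ R₀ := finite_invariants hG hequiv hS₀ hR₀i hR₀
  have hft₀ : Algebra.FiniteType k S₀ := finiteType_invariants hG hS₀i hS₀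
  have : IsNoetherianRing S₀ := Algebra.FiniteType.isNoetherianRing k S₀
  let n : Ideal S₀ := RingHom.ker (y.toRingHom.comp (algebraMap S₀ S))
  let n' : Ideal R₀ := n.map (algebraMap S₀ R₀)
  let D := R₀ ⧸ n'
  have hn : ∀ a : S₀, ∃ c : k, a - algebraMap k S₀ c ∈ n := fun a => ⟨y (algebraMap S₀ S a), by
    rw [RingHom.mem_ker, map_sub, RingHom.comp_apply, RingHom.comp_apply,
      ← IsScalarTower.algebraMap_apply k S₀ S, sub_eq_zero]
    exact (y.commutes _).symm⟩
  have hS₀k : IsScalarTower k S₀ R₀ := IsScalarTower.of_algebraMap_eq fun c => hR₀i (by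
    rw [← IsScalarTower.algebraMap_apply S₀ R₀ R, IsScalarTower.algebraMap_apply S₀ S R,
      ← IsScalarTower.algebraMap_apply k S₀ S, ← IsScalarTower.algebraMap_apply k R₀ R,
      ← IsScalarTower.algebraMap_apply k S R])
  have hD : Module.Finite k D := by
    obtain ⟨g, hg⟩ := Module.Finite.fg_top (R := S₀) (M := R₀)
    refine ⟨⟨g.image (Ideal.Quotient.mk n'), eq_top_iff.2 fun d hd => ?_⟩⟩
    clear hd
    obtain ⟨r, rfl⟩ := Ideal.Quotient.mk_surjective d
    have hr : r ∈ Submodule.span S₀ (g : Set R₀) := by rw [hg]; trivial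
    induction hr using Submodule.span_induction with
    | mem r hr => exact Submodule.subset_span (Finset.mem_image_of_mem _ hr)
    | zero => rw [map_zero]; exact zero_mem _
    | add a b _ _ ha hb => rw [map_add]; exact add_mem ha hb
    | smul c a _ ha =>
      obtain ⟨c', hc'⟩ := hn c
      have e : Ideal.Quotient.mk n' (c • a) = c' • Ideal.Quotient.mk n' a := by
        rw [← Ideal.Quotient.mkₐ_eq_mk k, ← map_smul, Ideal.Quotient.mkₐ_eq_mk, Ideal.Quotient.eq,
          Algebra.smul_def, Algebra.smul_def, IsScalarTower.algebraMap_apply k S₀ R₀, ← sub_mul, ← map_sub]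
        exact Ideal.mul_mem_right _ _ (Ideal.mem_map_of_mem _ hc')
      rw [e]
      exact Submodule.smul_mem _ _ ha
  -- separate the point from the others in the fibre
  let p : Ideal R₀ := Ideal.comap (algebraMap R₀ R) m
  have hpx : ∀ a, a ∈ p ↔ x (algebraMap R₀ R a) = 0 := fun a => by
    rw [Ideal.mem_comap, hm, RingHom.mem_ker]; rfl
  obtain ⟨f₂, hf₂x, hf₂⟩ : ∃ f₂ : R₀, x (algebraMap R₀ R f₂) ≠ 0 ∧
      ∀ P : Ideal R₀, P.IsMaximal → n' ≤ P → P ≠ p → f₂ ∈ P := by
    have : IsArtinianRing D := IsArtinianRing.of_finite k D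
    have : Fintype (MaximalSpectrum D) := Fintype.ofFinite _
    let T : Finset (Ideal R₀) := ((Finset.univ : Finset (MaximalSpectrum D)).image
      fun P => P.asIdeal.comap (Ideal.Quotient.mk n')).erase p
    have hT : ¬ T.inf id ≤ p := fun hle => by
      have : p.IsPrime := Ideal.IsPrime.comap _
      obtain ⟨P, hP, hPp⟩ := (Ideal.IsPrime.inf_le' this).1 hle
      obtain ⟨hne', hP⟩ := Finset.mem_erase.1 hP
      obtain ⟨Q, -, rfl⟩ := Finset.mem_image.1 hP
      have hmax : (Q.asIdeal.comap (Ideal.Quotient.mk n')).IsMaximal :=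
        Ideal.comap_isMaximal_of_surjective _ Ideal.Quotient.mk_surjective
      exact hne' (hmax.eq_of_le this.ne_top hPp)
    obtain ⟨f₂, h₁, h₂⟩ := SetLike.not_le_iff_exists.1 hT
    refine ⟨f₂, fun h => h₂ ((hpx f₂).2 h), fun P hP hle hne' => ?_⟩
    have hmax : (P.map (Ideal.Quotient.mk n')).IsMaximal :=
      (Ideal.map_eq_top_or_isMaximal_of_surjective _ Ideal.Quotient.mk_surjective hP).resolve_left fun ht => by
        have := congrArg (Ideal.comap (Ideal.Quotient.mk n')) ht
        rw [Ideal.comap_map_of_surjective _ Ideal.Quotient.mk_surjective, Ideal.comap_top,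
          ← RingHom.ker_eq_comap_bot, Ideal.mk_ker, sup_eq_left.2 hle] at this
        exact hP.ne_top this
    refine Submodule.mem_finsetInf.1 h₁ P (Finset.mem_erase.2 ⟨hne', Finset.mem_image.2
      ⟨⟨_, hmax⟩, Finset.mem_univ _, ?_⟩⟩)
    show Ideal.comap (Ideal.Quotient.mk n') (P.map (Ideal.Quotient.mk n')) = P
    rw [Ideal.comap_map_of_surjective _ Ideal.Quotient.mk_surjective, ← RingHom.ker_eq_comap_bot,
      Ideal.mk_ker, sup_eq_left.2 hle]
  let f := f₁ * f₂
  let F := algebraMap R₀ R f
  have hFx : x F ≠ 0 := by simp [F, f, hf₁x, hf₂x]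
  have hetF : Algebra.Etale S (Localization.Away F) := by
    rw [← Algebra.basicOpen_subset_etaleLocus_iff_etale]
    refine mem_nonEtaleIdeal.1 ?_
    rw [show F = algebraMap R₀ R f₁ * algebraMap R₀ R f₂ from map_mul _ _ _]
    exact Ideal.mul_mem_right _ _ hf₁I
  let N : Ideal S := n.map (algebraMap S₀ S)
  have hNR : ∀ a ∈ n', algebraMap R₀ R a ∈ N.map (algebraMap S R) := fun a ha => by
    have h2 : algebraMap R₀ R a ∈ n'.map (algebraMap R₀ R) := Ideal.mem_map_of_mem _ ha
    rwa [Ideal.map_map, ← IsScalarTower.algebraMap_eq, IsScalarTower.algebraMap_eq S₀ S R, ← Ideal.map_map] at h2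
  obtain ⟨mm, hmm⟩ := exists_pow_stabilize (k := k) (Ideal.Quotient.mk n' f)
  have hmm' : ∀ d : R₀, ∃ e : R₀, f ^ mm * d - f ^ (mm + 1) * e ∈ n' := fun d => by
    obtain ⟨e, he⟩ := hmm (Ideal.Quotient.mk n' d)
    obtain ⟨e, rfl⟩ := Ideal.Quotient.mk_surjective e
    exact ⟨e, Ideal.Quotient.eq.1 (by simpa using he)⟩
  obtain ⟨hsur, hinjN⟩ := fibre_iso hG x hy N (algebraMap S₀ S '' n) rfl
    (by rintro s ⟨a, -, rfl⟩; exact hinvS a)
    (Ideal.map_le_iff_le_comap.2 fun a ha => ha)
    (fun s hs => by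
      obtain ⟨a, rfl⟩ := hliftS s hs
      obtain ⟨c, hc⟩ := hn a
      refine ⟨c, ?_⟩
      rw [IsScalarTower.algebraMap_apply k S₀ S, ← map_sub]
      exact Ideal.mem_map_of_mem _ hc)
    F hFx
    (by
      obtain ⟨e, he⟩ := hmm' 1
      refine ⟨mm, fun r => ⟨algebraMap R₀ R e * r, ?_⟩⟩
      have : F ^ mm * r - F ^ (mm + 1) * (algebraMap R₀ R e * r) =
          algebraMap R₀ R (f ^ mm * 1 - f ^ (mm + 1) * e) * r := by
        simp only [F, map_sub, map_mul, map_pow, map_one]; ring
      rw [this]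
      exact Ideal.mul_mem_right _ _ (hNR _ he))
    (fun z hzF hzy => by
      have hz : GLin.IsClosedOrbit k A z := (isClosedOrbit_iff_of_finite hequiv z).2 (by
        rw [show z.comp (IsScalarTower.toAlgHom k S R) = y from hzy]; exact hy')
      let P : Ideal R₀ := RingHom.ker (z.comp (IsScalarTower.toAlgHom k R₀ R))
      have hP : P.IsMaximal := RingHom.ker_isMaximal_of_surjective _ fun c =>
        ⟨algebraMap k R₀ c, AlgHom.commutes _ c⟩
      have hnP : n' ≤ P := Ideal.map_le_iff_le_comap.2 fun a ha => by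
        show z (algebraMap R₀ R (algebraMap S₀ R₀ a)) = 0
        rw [← IsScalarTower.algebraMap_apply S₀ R₀ R, IsScalarTower.algebraMap_apply S₀ S R]
        exact (AlgHom.congr_fun hzy _).trans ha
      have hPp : P = p := by
        by_contra hne'
        refine hzF ?_
        show z (algebraMap R₀ R (f₁ * f₂)) = 0
        exact P.mul_mem_left f₁ (hf₂ P hP hnP hne')
      obtain ⟨g, hg⟩ := hxc.exists_eq_actPt hG ((isClosedOrbit_iff z).1 hz) (AlgHom.ext fun r => by
        obtain ⟨a, ha⟩ := hliftR r r.2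
        show x r = z r
        rw [← ha]
        have h2 : a - algebraMap k R₀ (x (algebraMap R₀ R a)) ∈ P := by
          rw [hPp, hpx, map_sub, map_sub, ← IsScalarTower.algebraMap_apply k R₀ R, AlgHom.commutes,
            Algebra.algebraMap_self_apply, sub_self]
        have h3 : z (algebraMap R₀ R (a - algebraMap k R₀ (x (algebraMap R₀ R a)))) = 0 := h2
        rw [map_sub, map_sub, ← IsScalarTower.algebraMap_apply k R₀ R, AlgHom.commutes, sub_eq_zero] at h3
        exact h3.symm)
      rw [hg]
      refine hinj g ?_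
      rw [← hequiv.actPt_comp, ← hg, hzy])
  exact ⟨f, hFx, hetF, hsur, hinjN⟩

/-- Luna's fundamental lemma: the map of quotients is étale at the image of a closed orbit on
which the equivariant finite map is étale and injective. -/
theorem isEtaleAt_invariants (hG : IsLinearlyReductive k A) (hequiv : IsEquiv k A S R)
    (hS₀i : Function.Injective (algebraMap S₀ S)) (hS₀ : (IsScalarTower.toAlgHom k S₀ S).range = GLin.invariants k A S)
    (hR₀i : Function.Injective (algebraMap R₀ R)) (hR₀ : (IsScalarTower.toAlgHom k R₀ R).range = GLin.invariants k A R)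
    (x : R →ₐ[k] k) (hx : GLin.IsClosedOrbit k A x) (m : Ideal R) [m.IsMaximal] (hm : m = RingHom.ker x.toRingHom)
    (het : Algebra.IsEtaleAt S m)
    (hinj : ∀ g : A →ₐ[k] k, GLin.actPt k g (x.comp (IsScalarTower.toAlgHom k S R)) = x.comp (IsScalarTower.toAlgHom k S R) →
      GLin.actPt k g x = x) :
    Algebra.IsEtaleAt S₀ (Ideal.comap (algebraMap R₀ R) m) := by
  classical
  obtain ⟨α, hα, h1⟩ := exists_integral hG
  have hinvS : ∀ a : S₀, algebraMap S₀ S a ∈ GLin.invariants k A S := fun a => hS₀ ▸ ⟨a, rfl⟩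
  have hinvR : ∀ a : R₀, algebraMap R₀ R a ∈ GLin.invariants k A R := fun a => hR₀ ▸ ⟨a, rfl⟩
  have hliftS : ∀ s ∈ GLin.invariants k A S, ∃ a : S₀, algebraMap S₀ S a = s := fun s hs => by
    rw [← hS₀] at hs; exact hs
  have hliftR : ∀ r ∈ GLin.invariants k A R, ∃ a : R₀, algebraMap R₀ R a = r := fun r hr => by
    rw [← hR₀] at hr; exact hr
  have : IsNoetherianRing S := Algebra.FiniteType.isNoetherianRing k S
  have : Algebra.FinitePresentation S R :=
    Algebra.FinitePresentation.of_finiteType.1 inferInstance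
  let ι := IsScalarTower.toAlgHom k S R
  let y := x.comp ι
  let p : Ideal R₀ := Ideal.comap (algebraMap R₀ R) m
  have hpx : ∀ a, a ∈ p ↔ x (algebraMap R₀ R a) = 0 := fun a => by
    rw [Ideal.mem_comap, hm, RingHom.mem_ker]; rfl
  have hfin₀ : Module.Finite S₀ R₀ := finite_invariants hG hequiv hS₀ hR₀i hR₀
  have hft₀ : Algebra.FiniteType k S₀ := finiteType_invariants hG hS₀i hS₀
  have : IsNoetherianRing S₀ := Algebra.FiniteType.isNoetherianRing k S₀
  let n : Ideal S₀ := RingHom.ker (y.toRingHom.comp (algebraMap S₀ S))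
  let N : Ideal S := n.map (algebraMap S₀ S)
  obtain ⟨f, hFx, hetF, hsur, hinjN⟩ := exists_good hG hequiv hS₀i hS₀ hR₀i hR₀ x hx m hm het hinj
  let F := algebraMap R₀ R f
  -- levels
  let Rf := Localization.Away F
  let B := Localization.Away f
  let β : B →+* Rf := IsLocalization.Away.lift f (g := (algebraMap R Rf).comp (algebraMap R₀ R))
    (IsLocalization.Away.algebraMap_isUnit (S := Rf) F)
  have hβ : ∀ a : R₀, β (algebraMap R₀ B a) = algebraMap R Rf (algebraMap R₀ R a) := fun a =>
    IsLocalization.Away.lift_eq f _ a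
  have hlev1 := exists_sub_mem_pow N hsur
  have hlev2 := mem_pow_of_algebraMap_mem N hsur hinjN
  have hfu : ∀ e : ℕ, IsUnit (algebraMap R₀ B (f ^ e)) := fun e => by
    rw [map_pow]; exact (IsLocalization.Away.algebraMap_isUnit (S := B) f).pow e
  have hpowN : ∀ j : ℕ, (N ^ j).map (algebraMap S R) = (n ^ j).map (algebraMap S₀ R) := fun j => by
    rw [← Ideal.map_pow, Ideal.map_map, ← IsScalarTower.algebraMap_eq]
  -- Reynolds
  have hreyn : ∀ (j : ℕ) (r : R), r ∈ (n ^ j).map (algebraMap S₀ R) → ∀ a : R₀,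
      algebraMap R₀ R a = Groth.Agent.HopfLib.hit α r → a ∈ (n ^ j).map (algebraMap S₀ R₀) := by
    intro j r hr
    have key : ∀ b : R, ∀ a : R₀, algebraMap R₀ R a = Groth.Agent.HopfLib.hit α (b * r) →
        a ∈ (n ^ j).map (algebraMap S₀ R₀) := by
      induction hr using Submodule.span_induction with
      | mem r hr =>
        obtain ⟨s, hs, rfl⟩ := hr
        intro b a ha
        obtain ⟨b₀, hb₀⟩ := hliftR _ (reynolds_mem_invariants hα h1 b)
        have hsR : algebraMap S₀ R s = algebraMap R₀ R (algebraMap S₀ R₀ s) :=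
          IsScalarTower.algebraMap_apply _ _ _ _
        rw [mul_comm, hsR, hit_mul_of_mem_invariants α (hinvR _),
          show Groth.Agent.HopfLib.hit α b = algebraMap R₀ R b₀ from hb₀.symm, ← map_mul] at ha
        rw [hR₀i ha]
        exact Ideal.mul_mem_right _ _ (Ideal.mem_map_of_mem _ hs)
      | zero =>
        intro b a ha
        rw [mul_zero, map_zero, ← map_zero (algebraMap R₀ R)] at ha
        rw [hR₀i ha]; exact zero_mem _
      | add u v _ _ hu hv =>
        intro b a ha
        obtain ⟨u₀, hu₀⟩ := hliftR _ (reynolds_mem_invariants hα h1 (b * u))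
        have := add_mem (hu b u₀ hu₀) (hv b (a - u₀) (by
          rw [map_sub, ha, mul_add, map_add]; exact sub_eq_of_eq_add' (congrArg (· + _) hu₀.symm)))
        rwa [add_sub_cancel] at this
      | smul c u _ hu =>
        intro b a ha
        exact hu (b * c) a (by rw [ha, smul_eq_mul, mul_assoc])
    exact fun a ha => key 1 a (by rw [one_mul]; exact ha)
  have hb : ∀ j : ℕ, Function.Bijective (Ideal.quotientMap ((n.map (algebraMap S₀ B)) ^ j) (algebraMap S₀ B)
      (FSch.pow_le_comap_pow_of_map_le n (n.map (algebraMap S₀ B)) (algebraMap S₀ B) le_rfl j)) := by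
    intro j
    have hmapB : (n.map (algebraMap S₀ B)) ^ j = ((n ^ j).map (algebraMap S₀ R₀)).map (algebraMap R₀ B) := by
      rw [← Ideal.map_pow, Ideal.map_map, ← IsScalarTower.algebraMap_eq]
    refine ⟨(injective_iff_map_eq_zero _).2 fun a ha => ?_, fun b => ?_⟩
    · obtain ⟨a, rfl⟩ := Ideal.Quotient.mk_surjective a
      rw [Ideal.quotientMap_mk, Ideal.Quotient.eq_zero_iff_mem, hmapB] at ha
      refine Ideal.Quotient.eq_zero_iff_mem.2 ?_
      have h2 : algebraMap S Rf (algebraMap S₀ S a) ∈ (N ^ j).map (algebraMap S Rf) := by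
        have h3 := Ideal.mem_map_of_mem β ha
        rw [Ideal.map_map, Ideal.map_map, IsScalarTower.algebraMap_apply S₀ R₀ B, hβ,
          ← IsScalarTower.algebraMap_apply S₀ R₀ R, IsScalarTower.algebraMap_apply S₀ S R,
          ← IsScalarTower.algebraMap_apply S R Rf] at h3
        rw [← Ideal.map_pow, Ideal.map_map]
        convert h3 using 2
        refine RingHom.ext fun s => ?_
        simp only [RingHom.comp_apply]
        rw [hβ, ← IsScalarTower.algebraMap_apply S₀ R₀ R, IsScalarTower.algebraMap_apply S₀ S R,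
          ← IsScalarTower.algebraMap_apply S R Rf]
      have h4 := hlev2 j _ h2
      have key : ∀ s ∈ N ^ j, ∀ b : S, ∀ c : S₀, algebraMap S₀ S c = Groth.Agent.HopfLib.hit α (b * s) → c ∈ n ^ j := by
        intro s hs
        rw [← Ideal.map_pow] at hs
        induction hs using Submodule.span_induction with
        | mem s hs =>
          obtain ⟨s₀, hs₀, rfl⟩ := hs
          intro b c hc
          obtain ⟨b₀, hb₀⟩ := hliftS _ (reynolds_mem_invariants hα h1 b)
          rw [mul_comm, hit_mul_of_mem_invariants α (hinvS _),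
            show Groth.Agent.HopfLib.hit α b = algebraMap S₀ S b₀ from hb₀.symm, ← map_mul] at hc
          rw [hS₀i hc]
          exact Ideal.mul_mem_right _ _ hs₀
        | zero =>
          intro b c hc
          rw [mul_zero, map_zero, ← map_zero (algebraMap S₀ S)] at hc
          rw [hS₀i hc]; exact zero_mem _
        | add u v _ _ hu hv =>
          intro b c hc
          obtain ⟨u₀, hu₀⟩ := hliftS _ (reynolds_mem_invariants hα h1 (b * u))
          have := add_mem (hu b u₀ hu₀) (hv b (c - u₀) (by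
            rw [map_sub, hc, mul_add, map_add]; exact sub_eq_of_eq_add' (congrArg (· + _) hu₀.symm)))
          rwa [add_sub_cancel] at this
        | smul d u _ hu =>
          intro b c hc
          exact hu (b * d) c (by rw [hc, smul_eq_mul, mul_assoc])
      exact key _ h4 1 a (by
        rw [one_mul]; exact (hit_eq_self_of_mem_fixedPts h1 (hinvS a)).symm)
    · obtain ⟨w, rfl⟩ := Ideal.Quotient.mk_surjective b
      obtain ⟨⟨r₀, ⟨_, e, rfl⟩⟩, hw⟩ := IsLocalization.surj (Submonoid.powers f) w
      obtain ⟨s, hs⟩ := hlev1 j (β w)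
      -- clear denominators
      have hu := (IsLocalization.Away.algebraMap_isUnit (S := Rf) F).pow e
      have h2 : algebraMap R Rf (algebraMap R₀ R r₀ - F ^ e * algebraMap S R s) ∈
          ((N ^ j).map (algebraMap S R)).map (algebraMap R Rf) := by
        rw [Ideal.map_map, ← IsScalarTower.algebraMap_eq]
        have e1 : algebraMap R Rf (algebraMap R₀ R r₀ - F ^ e * algebraMap S R s) =
            algebraMap R Rf F ^ e * (β w - algebraMap S Rf s) := by
          rw [map_sub, ← hβ, ← hw, map_mul β, hβ, map_mul, map_pow, map_pow,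
            ← IsScalarTower.algebraMap_apply S R Rf, mul_sub, mul_comm (β w)]
        rw [e1]
        exact Ideal.mul_mem_left _ _ hs
      obtain ⟨_, ⟨e', rfl⟩, h3⟩ := (IsLocalization.algebraMap_mem_map_algebraMap_iff (Submonoid.powers F) Rf _ _).1 h2
      obtain ⟨s₀, hs₀⟩ := hliftS _ (reynolds_mem_invariants hα h1 s)
      dsimp only at h3
      rw [hpowN] at h3
      have h4 : f ^ e' * (r₀ - f ^ e * algebraMap S₀ R₀ s₀) ∈ (n ^ j).map (algebraMap S₀ R₀) := by
        refine hreyn j _ h3 _ ?_
        rw [mul_sub, map_sub, hit_mul_of_mem_invariants α (by rw [show F ^ e' = algebraMap R₀ R (f ^ e') from (map_pow _ _ _).symm]; exact hinvR _),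
          map_sub (Groth.Agent.HopfLib.hit α), hit_eq_self_of_mem_fixedPts h1 (hinvR r₀), hit_mul_of_mem_invariants α
            (by rw [show F ^ e = algebraMap R₀ R (f ^ e) from (map_pow _ _ _).symm]; exact hinvR _),
          hequiv.hit, show Groth.Agent.HopfLib.hit α s = algebraMap S₀ S s₀ from hs₀.symm,
          ← IsScalarTower.algebraMap_apply S₀ S R, IsScalarTower.algebraMap_apply S₀ R₀ R]
        simp only [F, map_sub, map_mul, map_pow, mul_assoc, mul_sub]
      refine ⟨Ideal.Quotient.mk _ s₀, ?_⟩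
      rw [Ideal.quotientMap_mk, Ideal.Quotient.eq, hmapB]
      have h5 := Ideal.mem_map_of_mem (algebraMap R₀ B) h4
      rw [map_mul, Ideal.unit_mul_mem_iff_mem _ (hfu e'), map_sub, map_mul, ← hw,
        ← IsScalarTower.algebraMap_apply S₀ R₀ B] at h5
      have e2 : w * algebraMap R₀ B (f ^ e) - algebraMap R₀ B (f ^ e) * algebraMap S₀ B s₀ =
          algebraMap R₀ B (f ^ e) * (w - algebraMap S₀ B s₀) := by ring
      rw [e2, Ideal.unit_mul_mem_iff_mem _ (hfu e)] at h5
      rw [← neg_sub]
      exact neg_mem h5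
  -- completion and étaleness
  have hR₀ft : Algebra.FiniteType S₀ R₀ := inferInstance
  have hBft : Algebra.FiniteType S₀ B :=
    Algebra.FiniteType.trans hR₀ft (IsLocalization.finiteType_of_monoid_fg (Submonoid.powers f) B)
  let E := RingEquiv.ofBijective _
    (Groth.Agent.AdicRing.bijective_complMap_of_levels n (n.map (algebraMap S₀ B)) (algebraMap S₀ B) le_rfl hb)
  obtain ⟨g, hg1, hget⟩ := Groth.Agent.CAlgH.AlgebraizeEtale.exists_etale_away (D := B) n E (fun c =>
    Groth.Agent.FSchLib.complMap_algebraMap n (n.map (algebraMap S₀ B)) (algebraMap S₀ B) le_rfl c)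
  have hp : p.IsPrime := Ideal.IsPrime.comap _
  have hfp : f ∉ p := fun h => hFx ((hpx f).1 h)
  obtain ⟨⟨a, ⟨_, e, rfl⟩⟩, ha⟩ := IsLocalization.surj (Submonoid.powers f) g
  let xB : B →+* k := IsLocalization.Away.lift f (g := x.toRingHom.comp (algebraMap R₀ R))
    (isUnit_iff_ne_zero.2 hFx)
  have hgx : xB g = 1 := by
    rw [← sub_eq_zero, ← map_one xB, ← map_sub]
    refine RingHom.mem_ker.1 ((Ideal.map_le_iff_le_comap.2 fun c hc => ?_) hg1)
    show xB (algebraMap S₀ B c) = 0
    rw [IsScalarTower.algebraMap_apply S₀ R₀ B, IsLocalization.Away.lift_eq]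
    show x (algebraMap R₀ R (algebraMap S₀ R₀ c)) = 0
    rw [← IsScalarTower.algebraMap_apply S₀ R₀ R, IsScalarTower.algebraMap_apply S₀ S R]
    exact hc
  have hap : a ∉ p := fun h => by
    have h2 := congrArg xB ha
    rw [map_mul, hgx, one_mul, IsLocalization.Away.lift_eq, IsLocalization.Away.lift_eq] at h2
    exact hFx (eq_zero_of_pow_eq_zero (n := e) (by
      rw [← map_pow, ← map_pow]
      exact h2.trans ((hpx a).1 h)))
  have hfa : ↑(PrimeSpectrum.basicOpen (f * a)) ⊆ Algebra.etaleLocus S₀ R₀ := by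
    rw [Algebra.basicOpen_subset_etaleLocus_iff]
    have : IsLocalization.Away (f * a) (Localization.Away g) := by
      have hassoc : Associated (algebraMap R₀ B a) g := by
        rw [← ha]
        exact associated_mul_unit_left _ _ (hfu e)
      have : IsLocalization.Away (algebraMap R₀ B a) (Localization.Away g) :=
        IsLocalization.Away.of_associated hassoc.symm
      rw [mul_comm]
      exact IsLocalization.Away.mul B (Localization.Away g) f a
    exact Algebra.FormallyEtale.of_equiv ((IsLocalization.algEquiv (Submonoid.powers (f * a))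
      (Localization.Away g) (Localization.Away (f * a))).restrictScalars S₀)
  exact hfa (show (⟨p, hp⟩ : PrimeSpectrum R₀) ∈ PrimeSpectrum.basicOpen (f * a) from fun h =>
    (hp.mem_or_mem h).elim hfp hap)

end Groth.Agent.Luna8
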