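import Groth.Agent.Luna8.Zariski
import Mathlib.RingTheory.Nakayama

/-!
# An invariant neighbourhood on which the map of quotients is étale and the square is cartesian
-/

open TensorProduct HopfRep Coalgebra

universe u

namespace Groth.Agent.Luna8

open Groth.Agent.HopfLib

set_option linter.unusedSectionVars false
set_option maxHeartbeats 1000000
set_option backward.isDefEq.respectTransparency false
set_option backward.isDefEq.respectTransparency.types false

/-- A subring which contains a power multiple of every element has the same localisation. -/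
theorem isLocalization_away_of_conductor {B : Type u} [CommRing B] {R : Type u} [CommRing R] [Algebra B R]
    (hinj : Function.Injective (algebraMap B R)) (h : B)
    (hc : ∀ r : R, ∃ (e : ℕ) (c : B), algebraMap B R h ^ e * r = algebraMap B R c) :
    IsLocalization.Away h (Localization.Away (algebraMap B R h)) := by
  let H := algebraMap B R h
  have hH : ∀ n : ℕ, algebraMap B (Localization.Away H) (h ^ n) = algebraMap R (Localization.Away H) (H ^ n) :=
    fun n => by rw [IsScalarTower.algebraMap_apply B R (Localization.Away H), map_pow (algebraMap B R)]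
  refine ⟨?_, fun z => ?_, fun {a b} hab => ?_⟩
  · rintro ⟨_, n, rfl⟩
    show IsUnit (algebraMap B (Localization.Away H) (h ^ n))
    rw [hH, map_pow]
    exact (IsLocalization.Away.algebraMap_isUnit (S := Localization.Away H) H).pow n
  · obtain ⟨⟨r, ⟨_, n, rfl⟩⟩, hz⟩ := IsLocalization.surj (Submonoid.powers H) z
    obtain ⟨e, c, hec⟩ := hc r
    refine ⟨⟨c, ⟨h ^ (e + n), e + n, rfl⟩⟩, ?_⟩
    show z * algebraMap B _ (h ^ (e + n)) = algebraMap B _ c
    rw [hH, pow_add, map_mul, mul_comm (algebraMap R (Localization.Away H) (H ^ e)), ← mul_assoc, hz, ← map_mul,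
      mul_comm, hec, ← IsScalarTower.algebraMap_apply]
  · change algebraMap B (Localization.Away H) a = algebraMap B (Localization.Away H) b at hab
    rw [IsScalarTower.algebraMap_apply B R (Localization.Away H) a, IsScalarTower.algebraMap_apply B R (Localization.Away H) b,
      IsLocalization.eq_iff_exists (Submonoid.powers H)] at hab
    obtain ⟨⟨_, n, rfl⟩, hn⟩ := hab
    refine ⟨⟨h ^ n, n, rfl⟩, hinj ?_⟩
    rw [map_mul, map_mul, map_pow]
    exact hn

/-- Étaleness descends to a subring with the same localisation. -/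
theorem etale_away_iff_of_conductor {S : Type u} [CommRing S] {B : Type u} [CommRing B] [Algebra S B]
    {R : Type u} [CommRing R] [Algebra S R] [Algebra B R] [IsScalarTower S B R]
    (hinj : Function.Injective (algebraMap B R)) (h : B)
    (hc : ∀ r : R, ∃ (e : ℕ) (c : B), algebraMap B R h ^ e * r = algebraMap B R c) :
    Algebra.Etale S (Localization.Away (algebraMap B R h)) ↔ Algebra.Etale S (Localization.Away h) := by
  have := isLocalization_away_of_conductor hinj h hc
  let e : Localization.Away h ≃ₐ[S] Localization.Away (algebraMap B R h) :=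
    (IsLocalization.algEquiv (Submonoid.powers h) (Localization.Away h)
      (Localization.Away (algebraMap B R h))).restrictScalars S
  exact ⟨fun _ => Algebra.Etale.of_equiv e.symm, fun _ => Algebra.Etale.of_equiv e⟩

variable {k : Type u} [Field k] [IsAlgClosed k] {A : Type u} [CommRing A] [IsDomain A] [HopfAlgebra k A]
  [Algebra.FiniteType k A]
  {S : Type u} [CommRing S] [Algebra k S] [Algebra.FiniteType k S] [Comod k A S] [GLin.IsCoactAlg k A S]

/-- Translations fix invariants. -/
theorem actAlgHom_of_mem_invariants {R : Type u} [CommRing R] [Algebra k R] [Comod k A R] [GLin.IsCoactAlg k A R]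
    (g : A →ₐ[k] k) {f : R} (hf : f ∈ GLin.invariants k A R) : actAlgHom (R := R) g f = f := by
  rw [actAlgHom_apply, act_eq_hit]
  exact hit_eq_self_of_mem_fixedPts (by simp) hf

theorem actAlgHom_inv_apply {R : Type u} [CommRing R] [Algebra k R] [Comod k A R] [GLin.IsCoactAlg k A R]
    (g : A →ₐ[k] k) (f : R) :
    actAlgHom (R := R) g (actAlgHom (R := R) (g.comp (HopfAlgebra.antipodeAlgHom k A)) f) = f := by
  rw [actAlgHom_actAlgHom, orbitHom_self_comp_antipode, actAlgHom_counit]

section Surj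

variable {B : Type u} [CommRing B] [Algebra k B] [Algebra.FiniteType k B] [Comod k A B] [GLin.IsCoactAlg k A B]
  [Algebra S B] [IsScalarTower k S B] [Module.Finite S B]

/-- Near the point, the algebra is generated by invariants over the base. -/
theorem exists_invariant_generated (hG : IsLinearlyReductive k A) (hequiv : IsEquiv k A S B)
    (x : B →ₐ[k] k) (hx : IsClosedPtOrbit k A x) (F : B) (hFinv : F ∈ GLin.invariants k A B) (hFx : x F ≠ 0)
    (N : Ideal S) (hNy : N ≤ RingHom.ker (x.comp (IsScalarTower.toAlgHom k S B)))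
    (hsur : ∀ t : Localization.Away F, ∃ s : S, t - algebraMap S _ s ∈ N.map (algebraMap S (Localization.Away F))) :
    ∃ f ∈ GLin.invariants k A B, x f ≠ 0 ∧
      ∀ d : B, ∃ e : ℕ, f ^ e * d ∈ Algebra.adjoin S (GLin.invariants k A B : Set B) := by
  classical
  let BF := Localization.Away F
  let ι : B →ₐ[S] BF := IsScalarTower.toAlgHom S B BF
  let C : Subalgebra S B := Algebra.adjoin S (GLin.invariants k A B : Set B)
  let CF : Subalgebra S BF :=
    Algebra.adjoin S (ι '' (GLin.invariants k A B : Set B) ∪ {IsLocalization.Away.invSelf (S := BF) F})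
  have hFC : F ∈ C := Algebra.subset_adjoin hFinv
  -- the elements of CF are fractions
  have hCF : ∀ a ∈ CF, ∃ (e : ℕ) (c : B), c ∈ C ∧ a * ι F ^ e = ι c := by
    intro a ha
    induction ha using Algebra.adjoin_induction with
    | mem a ha =>
      rcases ha with ⟨c, hc, rfl⟩ | rfl
      · exact ⟨0, c, Algebra.subset_adjoin hc, by simp⟩
      · refine ⟨1, 1, one_mem _, ?_⟩
        rw [pow_one, map_one, mul_comm]
        exact IsLocalization.Away.mul_invSelf (S := BF) F
    | algebraMap s => exact ⟨0, algebraMap S B s, C.algebraMap_mem s, by simp⟩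
    | add a b _ _ ha hb =>
      obtain ⟨e, c, hc, hce⟩ := ha
      obtain ⟨e', c', hc', hce'⟩ := hb
      refine ⟨e + e', c * F ^ e' + c' * F ^ e, add_mem (mul_mem hc (pow_mem hFC _)) (mul_mem hc' (pow_mem hFC _)), ?_⟩
      rw [map_add, map_mul, map_mul, map_pow, map_pow, ← hce, ← hce', pow_add]; ring
    | mul a b _ _ ha hb =>
      obtain ⟨e, c, hc, hce⟩ := ha
      obtain ⟨e', c', hc', hce'⟩ := hb
      exact ⟨e + e', c * c', mul_mem hc hc', by rw [map_mul, ← hce, ← hce', pow_add]; ring⟩
  have hinv : IsLocalization.Away.invSelf (S := BF) F ∈ CF := Algebra.subset_adjoin (Or.inr rfl)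
  -- Nakayama
  let M := BF ⧸ LinearMap.range (Algebra.linearMap CF BF)
  let π : BF →ₗ[CF] M := Submodule.mkQ _
  have hfin : (⊤ : Submodule CF BF).FG := by
    obtain ⟨g, hg⟩ := Module.Finite.fg_top (R := S) (M := B)
    refine ⟨g.image ι, eq_top_iff.2 fun t _ => ?_⟩
    obtain ⟨⟨r, ⟨_, n, rfl⟩⟩, ht⟩ := IsLocalization.surj (Submonoid.powers F) t
    have h1 : ι r ∈ Submodule.span CF (↑(g.image ι) : Set BF) := by
      have hr : r ∈ Submodule.span S (g : Set B) := by rw [hg]; trivial
      have h2 : ι r ∈ Submodule.span S (ι '' (g : Set B)) := by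
        rw [← AlgHom.toLinearMap_apply, show (ι '' (g : Set B)) = ι.toLinearMap '' g from rfl, ← Submodule.map_span]
        exact ⟨r, hr, rfl⟩
      rw [Finset.coe_image]
      exact Submodule.span_le_restrictScalars S CF _ h2
    have e1 : t = (⟨_, pow_mem hinv n⟩ : CF) • ι r := by
      rw [Algebra.smul_def]
      show t = IsLocalization.Away.invSelf (S := BF) F ^ n * algebraMap B BF r
      rw [← ht, show algebraMap B BF (F ^ n) = algebraMap B BF F ^ n from map_pow _ _ _, mul_comm t, ← mul_assoc,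
        ← mul_pow, mul_comm _ (algebraMap B BF F), IsLocalization.Away.mul_invSelf, one_pow, one_mul]
    rw [e1]
    exact Submodule.smul_mem _ _ h1
  let N' : Ideal CF := N.map (algebraMap S CF)
  have hle : (⊤ : Submodule CF M) ≤ N' • ⊤ := by
    rintro w -
    obtain ⟨t, rfl⟩ := Submodule.mkQ_surjective _ w
    obtain ⟨s, hs⟩ := hsur t
    have h0 : π (algebraMap S BF s) = 0 := (Submodule.Quotient.mk_eq_zero _).2 ⟨algebraMap S CF s, rfl⟩
    have h1 : π t = π (t - algebraMap S BF s) := by rw [map_sub, h0, sub_zero]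
    show π t ∈ _
    rw [h1]
    have h2 : t - algebraMap S BF s ∈ N' • (⊤ : Submodule CF BF) := by
      rw [Ideal.smul_top_eq_map, Submodule.restrictScalars_mem, Ideal.map_map, ← IsScalarTower.algebraMap_eq]
      exact hs
    have h3 := Submodule.mem_map_of_mem (f := π) h2
    rw [Submodule.map_smul''] at h3
    exact Submodule.smul_mono le_rfl le_top h3
  obtain ⟨a, ha1, ha0⟩ := Submodule.exists_sub_one_mem_and_smul_eq_zero_of_fg_of_le_smul N' (⊤ : Submodule CF M)
    (by
      have h := hfin.map π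
      rwa [Submodule.map_top, Submodule.range_mkQ] at h) hle
  have hamem : ∀ d : BF, (a : BF) * d ∈ CF := fun d => by
    have h := ha0 (π d) trivial
    rw [← map_smul, ← LinearMap.mem_ker, Submodule.ker_mkQ] at h
    obtain ⟨c, hc⟩ := h
    have e1 : (c : BF) = (a : BF) * d := hc
    rw [← e1]
    exact c.2
  let xF : BF →+* k := IsLocalization.Away.lift F (g := x.toRingHom) (isUnit_iff_ne_zero.2 hFx)
  have hxF : ∀ c, xF (ι c) = x c := fun c => IsLocalization.Away.lift_eq F _ c
  have hxa : xF (a : BF) = 1 := by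
    have h1 : N' ≤ RingHom.ker (xF.comp (algebraMap CF BF)) := Ideal.map_le_iff_le_comap.2 fun s hs => by
      rw [Ideal.mem_comap, RingHom.mem_ker, RingHom.comp_apply, ← IsScalarTower.algebraMap_apply,
        IsScalarTower.algebraMap_apply S B BF]
      exact (hxF _).trans (hNy hs)
    have h2 := RingHom.mem_ker.1 (h1 ha1)
    rw [map_sub, map_one, sub_eq_zero] at h2
    exact h2
  obtain ⟨e0, c0, hc0, hce0⟩ := hCF a a.2
  have hc0x : x c0 ≠ 0 := by
    rw [← hxF, ← hce0, map_mul, hxa, one_mul, map_pow, hxF]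
    exact pow_ne_zero _ hFx
  let J : Ideal B :=
    { carrier := {c | ∀ d : B, ∃ e : ℕ, F ^ e * (c * d) ∈ C}
      add_mem' := fun {c c'} hc hc' d => by
        obtain ⟨e, he⟩ := hc d
        obtain ⟨e', he'⟩ := hc' d
        refine ⟨e + e', ?_⟩
        rw [show F ^ (e + e') * ((c + c') * d) = F ^ e' * (F ^ e * (c * d)) + F ^ e * (F ^ e' * (c' * d)) by
          rw [pow_add]; ring]
        exact add_mem (mul_mem (pow_mem hFC _) he) (mul_mem (pow_mem hFC _) he')
      zero_mem' := fun d => ⟨0, by simp⟩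
      smul_mem' := fun c c' hc' d => by
        obtain ⟨e, he⟩ := hc' (c * d)
        exact ⟨e, by rwa [smul_eq_mul, mul_comm c c', mul_assoc c']⟩ }
  have hCstab : ∀ (g : A →ₐ[k] k), ∀ c ∈ C, actAlgHom (R := B) g c ∈ C := by
    intro g c hc
    induction hc using Algebra.adjoin_induction with
    | mem c hc => rw [actAlgHom_of_mem_invariants g hc]; exact Algebra.subset_adjoin hc
    | algebraMap s => rw [hequiv.actAlgHom_algebraMap]; exact C.algebraMap_mem _
    | add a b _ _ ha hb => rw [map_add]; exact add_mem ha hb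
    | mul a b _ _ ha hb => rw [map_mul]; exact mul_mem ha hb
  have hJ : ∀ g : A →ₐ[k] k, ∀ c ∈ J, actAlgHom (R := B) g c ∈ J := by
    intro g c hc d
    obtain ⟨e, he⟩ := hc (actAlgHom (R := B) (g.comp (HopfAlgebra.antipodeAlgHom k A)) d)
    have := hCstab g _ he
    rw [map_mul, map_mul, map_pow, actAlgHom_inv_apply, actAlgHom_of_mem_invariants g hFinv] at this
    exact ⟨e, this⟩
  have hc0J : c0 ∈ J := fun d => by
    obtain ⟨e1, c1, hc1, hce1⟩ := hCF _ (mul_mem (pow_mem (Algebra.subset_adjoin (Or.inl ⟨F, hFinv, rfl⟩) : ι F ∈ CF) e0) (hamem (ι d)))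
    have h1 : ι (F ^ e1 * (c0 * d)) = ι c1 := by
      rw [map_mul, map_mul, map_pow, ← hce0, ← hce1]; ring
    obtain ⟨⟨_, e2, rfl⟩, h2⟩ := (IsLocalization.eq_iff_exists (Submonoid.powers F) BF).1 h1
    refine ⟨e2 + e1, ?_⟩
    rw [pow_add, mul_assoc, show F ^ e2 * (F ^ e1 * (c0 * d)) = F ^ e2 * c1 from h2]
    exact mul_mem (pow_mem hFC _) hc1
  obtain ⟨f₂, hf₂inv, hf₂J, hf₂x⟩ := exists_invariant_mem_ne_zero hG J hJ hx fun hle => hc0x (hle hc0J)
  refine ⟨F * f₂, mul_mem hFinv hf₂inv, by simp [hFx, hf₂x], fun d => ?_⟩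
  obtain ⟨e, he⟩ := hf₂J d
  refine ⟨e + 1, ?_⟩
  rw [show (F * f₂) ^ (e + 1) * d = F * f₂ ^ e * (F ^ e * (f₂ * d)) by rw [mul_pow, pow_succ, pow_succ]; ring]
  exact mul_mem (mul_mem hFC (pow_mem (Algebra.subset_adjoin hf₂inv) _)) he

end Surj

section Model

variable {R : Type u} [CommRing R] [Algebra k R] [Algebra.FiniteType k R] [Comod k A R] [GLin.IsCoactAlg k A R]
  [Algebra S R] [IsScalarTower k S R]
  {S₀ : Type u} [CommRing S₀] [Algebra k S₀] [Algebra S₀ S] [IsScalarTower k S₀ S]
  {R₀ : Type u} [CommRing R₀] [Algebra k R₀] [Algebra R₀ R] [IsScalarTower k R₀ R]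
  [Algebra S₀ R₀] [Algebra S₀ R] [IsScalarTower S₀ S R] [IsScalarTower S₀ R₀ R]

/-- A neighbourhood which is generated by invariants and étale over the base and over the invariants. -/
theorem exists_nhd (hG : IsLinearlyReductive k A) (hequiv : IsEquiv k A S R)
    (hS₀i : Function.Injective (algebraMap S₀ S)) (hS₀ : (IsScalarTower.toAlgHom k S₀ S).range = GLin.invariants k A S)
    (hR₀i : Function.Injective (algebraMap R₀ R)) (hR₀ : (IsScalarTower.toAlgHom k R₀ R).range = GLin.invariants k A R)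
    (x : R →ₐ[k] k) (m : Ideal R) [m.IsMaximal] (hm : m = RingHom.ker x.toRingHom)
    (het : Algebra.IsEtaleAt S m)
    (hy : GLin.IsClosedOrbit k A (x.comp (IsScalarTower.toAlgHom k S R)))
    (hinj : ∀ g : A →ₐ[k] k, GLin.actPt k g (x.comp (IsScalarTower.toAlgHom k S R)) = x.comp (IsScalarTower.toAlgHom k S R) →
      GLin.actPt k g x = x) :
    ∃ H : R₀, x (algebraMap R₀ R H) ≠ 0 ∧ Algebra.Etale S (Localization.Away (algebraMap R₀ R H)) ∧
      Algebra.Etale S₀ (Localization.Away H) ∧
      ∀ r : R, ∃ e : ℕ, algebraMap R₀ R H ^ e * r ∈ Algebra.adjoin S (Set.range (algebraMap R₀ R)) := by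
  classical
  have : IsNoetherianRing S := Algebra.FiniteType.isNoetherianRing k S
  obtain ⟨Bs, bc, hBfin, hBs, hbcB, hbcm, hcond⟩ := exists_finite_model hequiv m het
  letI cB : Comod k A Bs := ComodSub.Comod.restr inferInstance (Bs.restrictScalars k).toSubmodule hBs
  have hval : ∀ b : Bs, Algebra.TensorProduct.map (Bs.val.restrictScalars k) (AlgHom.id k A)
      (Comod.coact (k := k) (A := A) b) = Comod.coact (k := k) (A := A) (b : R) := by
    intro b
    refine Eq.trans ?_ (ComodSub.restr_coact_coe inferInstance (Bs.restrictScalars k).toSubmodule hBs b)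
    generalize (Comod.coact (k := k) (A := A) b) = t
    induction t using TensorProduct.induction_on with
    | zero => simp
    | add x y hx hy => simp only [map_add]; exact congrArg₂ (· + ·) hx hy
    | tmul a b => rfl
  have hvinj : Function.Injective (Algebra.TensorProduct.map (Bs.val.restrictScalars k) (AlgHom.id k A)) := by
    have h : Function.Injective ((Bs.val.restrictScalars k).toLinearMap.rTensor A) :=
      Module.Flat.rTensor_preserves_injective_linearMap _ Subtype.val_injective
    have e : (Bs.val.restrictScalars k).toLinearMap.rTensor A =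
        (Algebra.TensorProduct.map (Bs.val.restrictScalars k) (AlgHom.id k A)).toLinearMap := by
      ext b a; rfl
    rw [e] at h
    exact h
  have : GLin.IsCoactAlg k A Bs := by
    constructor
    · exact hvinj (by rw [hval, map_one]; exact GLin.IsCoactAlg.coact_one)
    · intro f g
      exact hvinj (by rw [hval, map_mul, hval, hval]; exact GLin.IsCoactAlg.coact_mul (k := k) (A := A) _ _)
  have hval0 : IsEquiv k A Bs R := fun b => by
    refine (hval b).symm.trans ?_
    congr 1
  have hequivB : IsEquiv k A S Bs := fun s => hvinj (by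
    rw [hval, show ((algebraMap S Bs s : Bs) : R) = algebraMap S R s from rfl, hequiv s]
    generalize (Comod.coact (k := k) (A := A) s) = t
    induction t using TensorProduct.induction_on with
    | zero => simp
    | add x y hx hy => simp [map_add, hx, hy]
    | tmul a b => rfl)
  have : Algebra.FiniteType S Bs := inferInstance
  have : Algebra.FiniteType k Bs := Algebra.FiniteType.trans ‹Algebra.FiniteType k S› ‹_›
  let B₀ := GLin.invariants k A Bs
  letI : Algebra S₀ B₀ := (RingHom.codRestrict (algebraMap S₀ Bs) B₀.toSubsemiring (fun s => by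
    show algebraMap S₀ Bs s ∈ GLin.invariants k A Bs
    rw [IsScalarTower.algebraMap_apply S₀ S Bs]
    exact hequivB.algebraMap_mem_invariants (hS₀ ▸ ⟨s, rfl⟩))).toAlgebra
  have : IsScalarTower S₀ B₀ Bs := IsScalarTower.of_algebraMap_eq fun s => rfl
  have hBrange : (IsScalarTower.toAlgHom k B₀ Bs).range = GLin.invariants k A Bs :=
    SetLike.ext fun b => ⟨fun h => by obtain ⟨c, rfl⟩ := h; exact c.2,
      fun hb => (AlgHom.mem_range _).2 ⟨⟨b, hb⟩, rfl⟩⟩
  let xB : Bs →ₐ[k] k := x.comp (IsScalarTower.toAlgHom k Bs R)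
  have hxy : xB.comp (IsScalarTower.toAlgHom k S Bs) = x.comp (IsScalarTower.toAlgHom k S R) :=
    AlgHom.ext fun s => rfl
  have hxBo : GLin.IsClosedOrbit k A xB := (isClosedOrbit_iff_of_finite hequivB xB).2 (by rw [hxy]; exact hy)
  have hxBc : IsClosedPtOrbit k A xB := (isClosedOrbit_iff xB).1 hxBo
  -- an invariant in the conductor
  let I : Ideal Bs :=
    { carrier := {c | ∀ r : R, ∃ e : ℕ, (c : R) ^ e * r ∈ Bs}
      add_mem' := fun {c c'} hc hc' r => by
        obtain ⟨e, he⟩ := hc r
        obtain ⟨e', he'⟩ := hc' r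
        refine ⟨e + e', ?_⟩
        rw [show ((c + c' : Bs) : R) = (c : R) + c' from rfl, add_pow, Finset.sum_mul]
        refine sum_mem fun i hi => ?_
        rcases le_or_gt e i with hle | hlt
        · obtain ⟨j, rfl⟩ := Nat.exists_eq_add_of_le hle
          rw [show (c : R) ^ (e + j) * (c' : R) ^ (e + e' - (e + j)) * ((e + e').choose (e + j) : ℕ) * r =
            (c : R) ^ j * (c' : R) ^ (e + e' - (e + j)) * ((e + e').choose (e + j) : ℕ) * ((c : R) ^ e * r) by
            rw [pow_add]; ring]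
          exact mul_mem (mul_mem (mul_mem (pow_mem c.2 _) (pow_mem c'.2 _)) (natCast_mem _ _)) he
        · obtain ⟨j, hj⟩ := Nat.exists_eq_add_of_le (show e' ≤ e + e' - i by omega)
          rw [hj, show (c : R) ^ i * (c' : R) ^ (e' + j) * ((e + e').choose i : ℕ) * r =
            (c : R) ^ i * (c' : R) ^ j * ((e + e').choose i : ℕ) * ((c' : R) ^ e' * r) by
            rw [pow_add]; ring]
          exact mul_mem (mul_mem (mul_mem (pow_mem c.2 _) (pow_mem c'.2 _)) (natCast_mem _ _)) he'
      zero_mem' := fun r => ⟨1, by simp⟩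
      smul_mem' := fun c c' hc' r => by
        obtain ⟨e, he⟩ := hc' r
        refine ⟨e, ?_⟩
        rw [show ((c • c' : Bs) : R) = (c : R) * c' from rfl, mul_pow, mul_assoc]
        exact mul_mem (pow_mem c.2 _) he }
  have hI : ∀ g : A →ₐ[k] k, ∀ c ∈ I, actAlgHom (R := Bs) g c ∈ I := by
    intro g c hc r
    obtain ⟨e, he⟩ := hc (actAlgHom (R := R) (g.comp (HopfAlgebra.antipodeAlgHom k A)) r)
    have h1 := hval0.actAlgHom_algebraMap g ⟨_, he⟩
    rw [show algebraMap Bs R ⟨_, he⟩ = (c : R) ^ e * _ from rfl, map_mul, map_pow, actAlgHom_inv_apply] at h1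
    refine ⟨e, ?_⟩
    have h2 : actAlgHom (R := R) g (c : R) = (actAlgHom (R := Bs) g c : R) := hval0.actAlgHom_algebraMap g c
    rw [← h2, h1]
    exact Subtype.prop _
  obtain ⟨b₀, hb₀inv, hb₀I, hb₀x⟩ := exists_invariant_mem_ne_zero hG I hI hxBc fun hle => by
    have h := hle (x := (⟨bc, hbcB⟩ : Bs)) hcond
    rw [RingHom.mem_ker] at h
    exact hbcm (hm ▸ RingHom.mem_ker.2 h)
  have hcB : ∀ (c : Bs), c ∈ I → ∀ r : R, ∃ (e : ℕ) (c' : Bs), algebraMap Bs R c ^ e * r = algebraMap Bs R c' :=
    fun c hc r => by obtain ⟨e, he⟩ := hc r; exact ⟨e, ⟨_, he⟩, rfl⟩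
  have hinjB : Function.Injective (algebraMap Bs R) := Subtype.val_injective
  have : IsNoetherianRing R := Algebra.FiniteType.isNoetherianRing k R
  have : Algebra.FiniteType S R := Algebra.FiniteType.of_restrictScalars_finiteType k S R
  have : Algebra.FinitePresentation S R := Algebra.FinitePresentation.of_finiteType.1 ‹_›
  have : Algebra.FinitePresentation S Bs := Algebra.FinitePresentation.of_finiteType.1 inferInstance
  -- étale at the point of the model
  let mB : Ideal Bs := RingHom.ker xB.toRingHom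
  have : mB.IsMaximal := RingHom.ker_isMaximal_of_surjective _ fun c => ⟨algebraMap k Bs c, AlgHom.commutes _ c⟩
  have hetB : Algebra.IsEtaleAt S mB := by
    obtain ⟨f, hf, hfet⟩ := Algebra.exists_etale_of_isEtaleAt (R := S) m
    obtain ⟨e, he⟩ := hb₀I f
    let h : Bs := b₀ * ⟨_, he⟩
    have h1 : (↑(PrimeSpectrum.basicOpen (algebraMap Bs R h)) : Set (PrimeSpectrum R)) ⊆ Algebra.etaleLocus S R := by
      refine Set.Subset.trans (fun P hP (hfP : _ ∈ P.asIdeal) => hP ?_) (Algebra.basicOpen_subset_etaleLocus_iff_etale.2 hfet)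
      show (b₀ : R) * ((b₀ : R) ^ e * f) ∈ P.asIdeal
      exact Ideal.mul_mem_left _ _ (Ideal.mul_mem_left _ _ hfP)
    have h2 := (etale_away_iff_of_conductor hinjB h (hcB h (I.mul_mem_right _ hb₀I))).1
      (Algebra.basicOpen_subset_etaleLocus_iff_etale.1 h1)
    have hmB : mB.IsPrime := Ideal.IsMaximal.isPrime inferInstance
    refine (Algebra.basicOpen_subset_etaleLocus_iff_etale.2 h2) (show (⟨mB, hmB⟩ : PrimeSpectrum Bs) ∈ PrimeSpectrum.basicOpen h from ?_)
    show h ∉ mB
    intro hh
    have h3 : x ((b₀ : R) * ((b₀ : R) ^ e * f)) = 0 := hh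
    rw [map_mul, map_mul, map_pow, mul_eq_zero, mul_eq_zero] at h3
    rcases h3 with h3 | h3 | h3
    · exact hb₀x h3
    · exact hb₀x (eq_zero_of_pow_eq_zero h3)
    · exact hf (hm ▸ RingHom.mem_ker.2 h3)
  have hinjx : ∀ g : A →ₐ[k] k, GLin.actPt k g (xB.comp (IsScalarTower.toAlgHom k S Bs)) =
      xB.comp (IsScalarTower.toAlgHom k S Bs) → GLin.actPt k g xB = xB := fun g hg => by
    rw [hxy] at hg
    rw [← hval0.actPt_comp, hinj g hg]
  obtain ⟨f, hfx, hfet, hsur, -⟩ := exists_good hG hequivB hS₀i hS₀ (Subtype.val_injective : Function.Injective (algebraMap B₀ Bs))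
    hBrange xB hxBo mB rfl hetB hinjx
  have hetp := isEtaleAt_invariants hG hequivB hS₀i hS₀ (Subtype.val_injective : Function.Injective (algebraMap B₀ Bs))
    hBrange xB hxBo mB rfl hetB hinjx
  obtain ⟨f₃, hf₃inv, hf₃x, hf₃⟩ := exists_invariant_generated hG hequivB xB hxBc (algebraMap B₀ Bs f) f.2 hfx _
    (Ideal.map_le_iff_le_comap.2 fun a ha => ha) hsur
  -- étale over the invariants
  have hft₀ : Algebra.FiniteType k S₀ := finiteType_invariants hG hS₀i hS₀
  have : IsNoetherianRing S₀ := Algebra.FiniteType.isNoetherianRing k S₀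
  have hfinB₀ : Module.Finite S₀ B₀ := finite_invariants hG hequivB hS₀ (Subtype.val_injective : Function.Injective (algebraMap B₀ Bs)) hBrange
  have : Algebra.FinitePresentation S₀ B₀ := Algebra.FinitePresentation.of_finiteType.1 inferInstance
  let p : Ideal B₀ := Ideal.comap (algebraMap B₀ Bs) mB
  have : p.IsPrime := Ideal.IsPrime.comap _
  have : Algebra.IsEtaleAt S₀ p := hetp
  obtain ⟨g₁, hg₁, hg₁et⟩ := Algebra.exists_etale_of_isEtaleAt (R := S₀) p
  let h : B₀ := ⟨b₀, hb₀inv⟩ * f * ⟨f₃, hf₃inv⟩ * g₁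
  have hhI : (h : Bs) ∈ I := I.mul_mem_right _ (I.mul_mem_right _ (I.mul_mem_right _ hb₀I))
  have hB₀R : ∀ b : B₀, ∃ a : R₀, algebraMap R₀ R a = ((b : Bs) : R) := fun b => by
    have h1 := hval0.algebraMap_mem_invariants b.2
    rw [← hR₀] at h1
    exact h1
  choose j hj using hB₀R
  let jH : B₀ →+* R₀ :=
    { toFun := j
      map_one' := hR₀i (by rw [hj, map_one]; rfl)
      map_mul' := fun a b => hR₀i (by rw [hj, map_mul, hj, hj]; rfl)
      map_zero' := hR₀i (by rw [hj, map_zero]; rfl)
      map_add' := fun a b => hR₀i (by rw [hj, map_add, hj, hj]; rfl) }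
  letI : Algebra B₀ R₀ := jH.toAlgebra
  have : IsScalarTower S₀ B₀ R₀ := IsScalarTower.of_algebraMap_eq fun s => hR₀i (by
    show _ = algebraMap R₀ R (j _)
    rw [hj, ← IsScalarTower.algebraMap_apply S₀ R₀ R]; rfl)
  refine ⟨j h, ?_, ?_, ?_, fun r => ?_⟩
  · rw [hj]
    show xB ((⟨b₀, hb₀inv⟩ * f * ⟨f₃, hf₃inv⟩ * g₁ : B₀) : Bs) ≠ 0
    rw [Subalgebra.coe_mul, Subalgebra.coe_mul, Subalgebra.coe_mul, map_mul, map_mul, map_mul]
    refine mul_ne_zero (mul_ne_zero (mul_ne_zero hb₀x hfx) hf₃x) fun h0 => hg₁ ?_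
    exact RingHom.mem_ker.2 h0
  · rw [hj, show ((h : Bs) : R) = algebraMap Bs R (h : Bs) from rfl, etale_away_iff_of_conductor hinjB _ (hcB _ hhI)]
    refine Algebra.basicOpen_subset_etaleLocus_iff_etale.1 (Set.Subset.trans (fun P hP (hfP : _ ∈ P.asIdeal) => hP ?_)
      (Algebra.basicOpen_subset_etaleLocus_iff_etale.2 hfet))
    show (b₀ * (f : Bs) * f₃ * (g₁ : Bs)) ∈ P.asIdeal
    exact Ideal.mul_mem_right _ _ (Ideal.mul_mem_right _ _ (Ideal.mul_mem_left _ _ hfP))
  · have h1 : Algebra.Etale S₀ (Localization.Away h) := by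
      refine Algebra.basicOpen_subset_etaleLocus_iff_etale.1 (Set.Subset.trans (fun P hP (hfP : _ ∈ P.asIdeal) => hP ?_)
        (Algebra.basicOpen_subset_etaleLocus_iff_etale.2 hg₁et))
      exact Ideal.mul_mem_left _ _ hfP
    refine (etale_away_iff_of_conductor (B := B₀) (R := R₀) (fun a b hab => ?_) h fun r₀ => ?_).2 h1
    · have h2 := congrArg (algebraMap R₀ R) (show j a = j b from hab)
      rw [hj, hj] at h2
      exact Subtype.ext (Subtype.ext h2)
    · obtain ⟨e, he⟩ := hhI (algebraMap R₀ R r₀)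
      let c : Bs := ⟨_, he⟩
      have hc : c ∈ GLin.invariants k A Bs := by
        have h2 : (c : R) ∈ GLin.invariants k A R :=
          mul_mem (pow_mem (hval0.algebraMap_mem_invariants h.2) e) (hR₀ ▸ ⟨r₀, rfl⟩)
        rw [GLin.mem_invariants_iff] at h2 ⊢
        exact hvinj (by rw [hval, h2, Algebra.TensorProduct.map_tmul]; rfl)
      refine ⟨e, ⟨c, hc⟩, hR₀i ?_⟩
      show algebraMap R₀ R (j h ^ e * r₀) = algebraMap R₀ R (j ⟨c, hc⟩)
      rw [map_mul, map_pow, hj, hj]
  · obtain ⟨e₁, he₁⟩ := hhI r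
    obtain ⟨e₂, he₂⟩ := hf₃ ⟨_, he₁⟩
    refine ⟨e₂ + e₁, ?_⟩
    have key : ∀ d ∈ Algebra.adjoin S (GLin.invariants k A Bs : Set Bs),
        (d : R) ∈ Algebra.adjoin S (Set.range (algebraMap R₀ R)) := by
      intro d hd
      induction hd using Algebra.adjoin_induction with
      | mem d hd => exact Algebra.subset_adjoin ⟨j ⟨d, hd⟩, hj _⟩
      | algebraMap s => exact Subalgebra.algebraMap_mem _ s
      | add a b _ _ ha hb => exact add_mem ha hb
      | mul a b _ _ ha hb => exact mul_mem ha hb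
    rw [hj]
    let u : B₀ := ⟨b₀, hb₀inv⟩ * f * g₁
    have e3 : ((h : Bs) : R) ^ (e₂ + e₁) * r =
        (((u : Bs) : R) ^ e₂) * ((f₃ : R) ^ e₂ * (((h : Bs) : R) ^ e₁ * r)) := by
      rw [show ((h : Bs) : R) = ((u : Bs) : R) * (f₃ : R) by simp [h, u]; ring, pow_add, mul_pow]; ring
    rw [e3]
    have hu : ((u : Bs) : R) ∈ Algebra.adjoin S (Set.range (algebraMap R₀ R)) :=
      Algebra.subset_adjoin (Set.mem_range.2 ⟨j u, hj u⟩)
    exact mul_mem (pow_mem hu _) (key _ he₂)

end Model

end Groth.Agent.Luna8
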