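import Groth.Agent.Luna8.SliceEtale
import Groth.Agent.Luna8.Basic
import Groth.Agent.GenSmoothLib.Alg
import Groth.Prelude.Def_ComodTens
import Mathlib.RingTheory.Smooth.Locus
import Mathlib.Algebra.Module.Projective

/-!
# Equivariant complements of differentials on a homogeneous space
-/

open TensorProduct HopfRep Coalgebra

universe u

namespace Groth.Agent.Luna8

open Groth.Agent.HopfLib

set_option linter.unusedSectionVars false
set_option maxHeartbeats 1000000

variable {k : Type u} [Field k] {A : Type u} [CommRing A] [HopfAlgebra k A]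

section Tensor

variable {V W : Type u} [AddCommGroup V] [Module k V] [AddCommGroup W] [Module k W]
  [cV : Comod k A V] [cW : Comod k A W]

/-- A point acts diagonally on a tensor product. -/
theorem hit_tensor (g : A →ₐ[k] k) (v : V) (w : W) :
    @hit k _ A _ _ _ (V ⊗[k] W) _ _ (ComodTens.Comod.tensor cV cW) g.toLinearMap (v ⊗ₜ w) =
      hit g.toLinearMap v ⊗ₜ hit g.toLinearMap w := by
  show sliceR g.toLinearMap ((ComodTens.Comod.tensor cV cW).coact (v ⊗ₜ w)) = _
  rw [ComodTens.tensor_coact_tmul, hit_apply, hit_apply]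
  generalize cV.coact v = s
  generalize cW.coact w = t
  induction s using TensorProduct.induction_on with
  | zero => simp
  | add p q hp hq => simp only [TensorProduct.add_tmul, map_add, hp, hq]
  | tmul x a =>
    induction t using TensorProduct.induction_on with
    | zero => simp
    | add p q hp hq => simp only [TensorProduct.tmul_add, map_add, hp, hq]
    | tmul y b => simp [TensorProduct.smul_tmul', TensorProduct.tmul_smul, smul_smul, mul_comm]

end Tensor

section TensorAlg

variable {C R : Type u} [CommRing C] [Algebra k C] [CommRing R] [Algebra k R]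
  [cC : Comod k A C] [GLin.IsCoactAlg k A C] [cR : Comod k A R] [GLin.IsCoactAlg k A R]

set_option synthInstance.maxHeartbeats 400000 in
/-- The diagonal coaction is multiplicative. -/
theorem isCoactAlg_tensor : @GLin.IsCoactAlg k _ A _ _ (C ⊗[k] R) _ _ (ComodTens.Comod.tensor cC cR) := by
  have key : ∀ (t : C ⊗[k] R), (ComodTens.Comod.tensor cC cR).coact t =
      Algebra.TensorProduct.lift
        ((Algebra.TensorProduct.map Algebra.TensorProduct.includeLeft (AlgHom.id k A)).comp (GLin.coactAlgHom k A C))
        ((Algebra.TensorProduct.map Algebra.TensorProduct.includeRight (AlgHom.id k A)).comp (GLin.coactAlgHom k A R))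
        (fun _ _ => Commute.all (S := (C ⊗[k] R) ⊗[k] A) _ _) t := by
    intro t
    induction t using TensorProduct.induction_on with
    | zero => simp
    | add p q hp hq => simp only [map_add, hp, hq]
    | tmul c r =>
      rw [ComodTens.tensor_coact_tmul, Algebra.TensorProduct.lift_tmul]
      simp only [AlgHom.comp_apply, GLin.coactAlgHom_apply]
      generalize cC.coact c = x
      generalize cR.coact r = y
      induction x using TensorProduct.induction_on with
      | zero => simp
      | add p q hp hq => simp only [TensorProduct.add_tmul, map_add, add_mul, hp, hq]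
      | tmul b h =>
        induction y using TensorProduct.induction_on with
        | zero => simp
        | add p q hp hq => simp only [TensorProduct.tmul_add, map_add, mul_add, hp, hq]
        | tmul t g => simp
  exact @GLin.IsCoactAlg.mk k _ A _ _ (C ⊗[k] R) _ _ (ComodTens.Comod.tensor cC cR)
    (by rw [key, map_one]) (fun x y => by rw [key, key, key, map_mul])

end TensorAlg

section Avg

variable {V : Type u} [AddCommGroup V] [Module k V] [Comod k A V]

/-- Translating back undoes a translation. -/
theorem hit_inv_hit (g : A →ₐ[k] k) (v : V) :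
    hit (g.comp (HopfAlgebra.antipodeAlgHom k A)).toLinearMap (hit g.toLinearMap v) = v := by
  rw [hit_hit, show formMul (g.comp (HopfAlgebra.antipodeAlgHom k A)).toLinearMap g.toLinearMap =
    counit (R := k) (A := A) from LinearMap.ext fun a => ?_, hit_counit]
  have h : ∀ t : A ⊗[k] A, (LinearMap.mul' k k ∘ₗ TensorProduct.map
      (g.comp (HopfAlgebra.antipodeAlgHom k A)).toLinearMap g.toLinearMap) t =
      g (LinearMap.mul' k A ((HopfAlgebraStruct.antipode k).rTensor A t)) := by
    intro t
    induction t using TensorProduct.induction_on with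
    | zero => simp
    | add p q hp hq => simp only [map_add, hp, hq]
    | tmul x y => simp
  show (LinearMap.mul' k k ∘ₗ TensorProduct.map _ _) (comul (R := k) a) = _
  rw [h, HopfAlgebra.mul_antipode_rTensor_comul_apply, AlgHom.commutes]
  simp

variable [IsAlgClosed k] [Algebra.FiniteType k A] [IsReduced A]

/-- A tensor is determined by its values at the rational points. -/
theorem eq_of_forall_point_sliceR_eq {U : Type u} [AddCommGroup U] [Module k U] {s t : U ⊗[k] A}
    (h : ∀ g : A →ₐ[k] k, sliceR g.toLinearMap s = sliceR g.toLinearMap t) : s = t := by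
  refine eq_of_forall_sliceL_eq fun f => ?_
  by_contra hne
  obtain ⟨g, hg⟩ := exists_algHom_ne_zero (k := k) (fun hn => hne (sub_eq_zero.1 hn.eq_zero))
  refine hg ?_
  have hcomm : ∀ w : U ⊗[k] A, g (sliceL f w) = f (sliceR g.toLinearMap w) := fun w => by
    induction w using TensorProduct.induction_on with
    | zero => simp
    | add p q hp hq => simp only [map_add, hp, hq]
    | tmul p q => simp [mul_comm]
  rw [map_sub, hcomm, hcomm, h, sub_self]

variable {C : Type u} [CommRing C] [Algebra k C] [Comod k A C] [GLin.IsCoactAlg k A C]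
  [Module C V] [IsScalarTower k C V] {M : Type u} [AddCommGroup M] [Module C M] [Module k M] [IsScalarTower k C M]

/-- Averaging a projection along an invariant kernel. -/
theorem exists_equivariant_retraction (hG : IsLinearlyReductive k A)
    (hsm : ∀ (g : A →ₐ[k] k) (c : C) (v : V),
      hit g.toLinearMap (c • v) = hit g.toLinearMap c • hit g.toLinearMap v)
    (d : V →ₗ[C] M) (hN : ∀ (g : A →ₐ[k] k) (v : V), d v = 0 → d (hit g.toLinearMap v) = 0)
    (P : V →ₗ[C] V) (hP : ∀ v, d v = 0 → P v = 0) (hdP : ∀ v, d (P v) = d v) :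
    ∃ Q : V →ₗ[C] V, (∀ v, d (Q v) = d v) ∧ (∀ v, d v = 0 → Q v = 0) ∧
      ∀ (g : A →ₐ[k] k) (v : V), Q (hit g.toLinearMap v) = hit g.toLinearMap (Q v) := by
  obtain ⟨α, hα, h1⟩ := exists_integral hG
  let inv (g : A →ₐ[k] k) : A →ₐ[k] k := g.comp (HopfAlgebra.antipodeAlgHom k A)
  let μ : A ⊗[k] A →ₗ[k] A := LinearMap.mul' k A ∘ₗ (HopfAlgebraStruct.antipode k (A := A)).rTensor A
  let J : V ⊗[k] A →ₗ[k] V ⊗[k] A := μ.lTensor V ∘ₗ (TensorProduct.assoc k V A A).toLinearMap ∘ₗ
    (Comod.coact (k := k) (A := A) (V := V)).rTensor A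
  have hJ : ∀ (β : A →ₗ[k] k) (v : V) (a : A), sliceR β (J (v ⊗ₜ a)) =
      hit (β ∘ₗ LinearMap.mulRight k a ∘ₗ HopfAlgebraStruct.antipode k) v := by
    intro β v a
    simp only [J, LinearMap.comp_apply, LinearMap.rTensor_tmul, LinearEquiv.coe_coe, hit_apply]
    generalize Comod.coact (k := k) (A := A) v = t
    induction t using TensorProduct.induction_on with
    | zero => simp
    | add p q hp hq => simp only [TensorProduct.add_tmul, map_add, hp, hq]
    | tmul x b => simp [μ]
  have havg : ∀ t : V ⊗[k] A, avg α t = sliceR α (J t) := by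
    intro t
    induction t using TensorProduct.induction_on with
    | zero => simp
    | add p q hp hq => simp only [map_add, hp, hq]
    | tmul v a => rw [avg_tmul, hJ]
  have hJg : ∀ (g : A →ₐ[k] k) (t : V ⊗[k] A),
      sliceR g.toLinearMap (J t) = hit (inv g).toLinearMap (sliceR g.toLinearMap t) := by
    intro g t
    induction t using TensorProduct.induction_on with
    | zero => simp
    | add p q hp hq => simp only [map_add, hp, hq]
    | tmul v a =>
      rw [hJ, sliceR_tmul, map_smul,
        show g.toLinearMap ∘ₗ LinearMap.mulRight k a ∘ₗ HopfAlgebraStruct.antipode k = g a • (inv g).toLinearMap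
          from LinearMap.ext fun b => by simp [inv, mul_comm], hit_smul]
      rfl
  let Pk : V →ₗ[k] V := P.restrictScalars k
  let T : V → V ⊗[k] A := fun v => J (Pk.rTensor A (Comod.coact v))
  have hT : ∀ (g : A →ₐ[k] k) (v : V),
      sliceR g.toLinearMap (T v) = hit (inv g).toLinearMap (P (hit g.toLinearMap v)) := fun g v => by
    rw [hJg, sliceR_rTensor, ← hit_apply]; rfl
  let Q₀ : V →ₗ[k] V := avg α ∘ₗ Pk.rTensor A ∘ₗ Comod.coact
  have hQ₀ : ∀ v, Q₀ v = sliceR α (T v) := fun v => havg _
  have hQh : Hoch.IsComodHom A Q₀ := by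
    refine LinearMap.ext fun v => ?_
    simp only [Q₀, LinearMap.comp_apply, coact_avg hα, LinearMap.rTensor_comp]
    congr 1
    have nat : ∀ t : V ⊗[k] A, Hoch.Ind.coactAux k A V (Pk.rTensor A t) =
        (Pk.rTensor A).rTensor A (Hoch.Ind.coactAux k A V t) := by
      intro t
      induction t using TensorProduct.induction_on with
      | zero => simp
      | add p q hp hq => simp only [map_add, hp, hq]
      | tmul x b =>
        simp only [LinearMap.rTensor_tmul, Hoch.Ind.coactAux_tmul]
        generalize Coalgebra.comul (R := k) b = s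
        induction s using TensorProduct.induction_on with
        | zero => simp
        | add p q hp hq => simp only [TensorProduct.tmul_add, map_add, hp, hq]
        | tmul y z => simp
    rw [nat]
    congr 1
    exact (TensorProduct.assoc k V A A).symm_apply_eq.2 (Groth.Agent.HopfLib.coassoc_apply v).symm
  have hsmulT : ∀ (c : C) (v : V), T (c • v) = ((Algebra.lsmul k k V c).rTensor A) (T v) := fun c v => by
    refine eq_of_forall_point_sliceR_eq fun g => ?_
    rw [hT, sliceR_rTensor, hT, hsm, map_smul, hsm, hit_inv_hit]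
    rfl
  let Q : V →ₗ[C] V :=
    { toFun := Q₀
      map_add' := map_add Q₀
      map_smul' := fun c v => by
        rw [hQ₀, hQ₀, hsmulT, sliceR_rTensor]; rfl }
  refine ⟨Q, fun v => ?_, fun v hv => ?_, fun g v => IsComodHom.hit_apply hQh g.toLinearMap v⟩
  · show d (Q₀ v) = d v
    have h : (d.restrictScalars k).rTensor A (T v) = d v ⊗ₜ[k] (1 : A) := by
      refine eq_of_forall_point_sliceR_eq fun g => ?_
      rw [sliceR_rTensor, hT, sliceR_tmul, AlgHom.toLinearMap_apply, map_one, one_smul]
      show d (hit (inv g).toLinearMap (P (hit g.toLinearMap v))) = d v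
      have h0 := hN (inv g) (P (hit g.toLinearMap v) - hit g.toLinearMap v) (by rw [map_sub, hdP, sub_self])
      rwa [map_sub, map_sub, hit_inv_hit, sub_eq_zero] at h0
    rw [hQ₀, show d (sliceR α (T v)) = sliceR α ((d.restrictScalars k).rTensor A (T v)) from
      (sliceR_rTensor (d.restrictScalars k) α (T v)).symm, h, sliceR_tmul, h1, one_smul]
  · show Q₀ v = 0
    rw [hQ₀, show T v = 0 from eq_of_forall_point_sliceR_eq fun g => by
      rw [hT, hP _ (hN g v hv), map_zero, map_zero], map_zero]

end Avg

section Orbit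

variable [IsAlgClosed k] [Algebra.FiniteType k A]
  {C : Type u} [CommRing C] [Algebra k C] [Comod k A C] [GLin.IsCoactAlg k A C]

/-- A reduced orbit is smooth. -/
theorem formallySmooth_of_homogeneous [CharZero k] [IsDomain C] [Algebra.FiniteType k C] {x : C →ₐ[k] k}
    (hx : ∀ c : C →ₐ[k] k, ∃ g : A →ₐ[k] k, c = GLin.actPt k g x) : Algebra.FormallySmooth k C := by
  have : IsNoetherianRing C := Algebra.FiniteType.isNoetherianRing k C
  have : Algebra.FinitePresentation k C := Algebra.FinitePresentation.of_finiteType.1 ‹_›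
  have : CharZero (FractionRing C) := charZero_of_injective_algebraMap (algebraMap k _).injective
  have hperf : PerfectField k := inferInstance
  obtain ⟨t, ht0, ht⟩ := GenSmoothLib.exists_smooth_away k C k (FractionRing C)
  obtain ⟨c₀, hc₀⟩ := exists_algHom_ne_zero (k := k) (fun h : IsNilpotent t => ht0 h.eq_zero)
  rw [← Algebra.smoothLocus_eq_univ_iff]
  refine Set.eq_univ_of_forall fun P => ?_
  by_contra hP
  obtain ⟨m, hm, hPm⟩ := Ideal.exists_le_maximal P.asIdeal P.isPrime.ne_top
  obtain ⟨c, hc⟩ := exists_algHom_le_ker (k := k) hm.ne_top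
  obtain ⟨g₀, hg₀⟩ := hx c₀
  obtain ⟨g₁, hg₁⟩ := hx c
  obtain ⟨g, hg⟩ : ∃ g : A →ₐ[k] k, c₀ = GLin.actPt k g c :=
    ⟨GLin.actPt k g₀ (g₁.comp (HopfAlgebra.antipodeAlgHom k A)), by
      rw [← actPt_actPt, hg₁, actPt_antipode, hg₀]⟩
  let σ := RingEquiv.ofBijective (actAlgHom (R := C) g) (actAlgHom_bijective g)
  have hmap : (Submonoid.powers t).map σ.toMonoidHom = Submonoid.powers (actAlgHom (R := C) g t) :=
    Submonoid.map_powers σ.toMonoidHom t
  let L : Localization.Away t ≃+* Localization.Away (actAlgHom (R := C) g t) :=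
    IsLocalization.ringEquivOfRingEquiv _ _ σ hmap
  let Lk : Localization.Away t ≃ₐ[k] Localization.Away (actAlgHom (R := C) g t) :=
    AlgEquiv.ofRingEquiv (f := L) fun a => by
      rw [IsScalarTower.algebraMap_apply k C (Localization.Away t), IsLocalization.ringEquivOfRingEquiv_eq,
        IsScalarTower.algebraMap_apply k C (Localization.Away (actAlgHom (R := C) g t))]
      exact congrArg _ ((actAlgHom (R := C) g).commutes a)
  have : Algebra.Smooth k (Localization.Away (actAlgHom (R := C) g t)) := Algebra.Smooth.of_equiv Lk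
  refine hP (Algebra.basicOpen_subset_smoothLocus_iff_smooth.2 this (fun hmem => hc₀ ?_))
  rw [hg, ← comp_actAlgHom, AlgHom.comp_apply]
  exact hc (hPm hmem)

end Orbit

section Diagonal

variable {C : Type u} [CommRing C] [Algebra k C] {R : Type u} [CommRing R] [Algebra k R]
  {W : Type u} [AddCommGroup W] [Module k W]

/-- The class of an element of the diagonal ideal. -/
noncomputable def toOmega (k C : Type u) [Field k] [CommRing C] [Algebra k C] :
    KaehlerDifferential.ideal k C →ₗ[C ⊗[k] C] Ω[C⁄k] :=
  (KaehlerDifferential.ideal k C).toCotangent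

theorem toOmega_eq_zero (z : KaehlerDifferential.ideal k C) :
    toOmega k C z = 0 ↔ (z : C ⊗[k] C) ∈ KaehlerDifferential.ideal k C ^ 2 :=
  Ideal.toCotangent_eq_zero _ z

theorem D_eq_toOmega (c : C) : KaehlerDifferential.D k C c =
    toOmega k C ⟨1 ⊗ₜ c - c ⊗ₜ 1, KaehlerDifferential.one_smul_sub_smul_one_mem_ideal k c⟩ := rfl

/-- The equations as elements of the kernel of multiplication. -/
theorem map_psiSlice_mem_ideal (π : R →ₐ[k] C) (ι : W →ₗ[k] R) (u : C ⊗[k] W) :
    ∃ h : Algebra.TensorProduct.map (AlgHom.id k C) π (psiSlice π ι u) ∈ KaehlerDifferential.ideal k C,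
      toOmega k C ⟨_, h⟩ = diffSlice π ι u := by
  induction u using TensorProduct.induction_on with
  | zero =>
    refine ⟨by simp, ?_⟩
    rw [map_zero (diffSlice π ι)]
    exact (congrArg _ (Subtype.ext (by simp))).trans (map_zero (toOmega k C))
  | add p q hp hq =>
    obtain ⟨h₁, e₁⟩ := hp
    obtain ⟨h₂, e₂⟩ := hq
    refine ⟨by rw [map_add, map_add]; exact add_mem h₁ h₂, ?_⟩
    rw [map_add (diffSlice π ι), ← e₁, ← e₂]
    exact (congrArg _ (Subtype.ext (by simp only [map_add]; rfl))).trans (map_add (toOmega k C) _ _)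
  | tmul c w =>
    have he : Algebra.TensorProduct.map (AlgHom.id k C) π (psiSlice π ι (c ⊗ₜ w)) =
        (c ⊗ₜ[k] (1 : C)) * ((1 : C) ⊗ₜ[k] π (ι w) - π (ι w) ⊗ₜ[k] (1 : C)) := by
      rw [psiSlice_tmul]
      simp [mul_sub]
    refine ⟨by rw [he]; exact Ideal.mul_mem_left _ _ (KaehlerDifferential.one_smul_sub_smul_one_mem_ideal k _), ?_⟩
    rw [diffSlice_tmul, ← IsScalarTower.algebraMap_smul (C ⊗[k] C) c (KaehlerDifferential.D k C (π (ι w))),
      D_eq_toOmega, ← map_smul]
    exact congrArg _ (Subtype.ext (he.trans rfl))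

/-- The kernel of the differential in terms of the square of the diagonal ideal. -/
theorem diffSlice_eq_zero_iff (π : R →ₐ[k] C) (ι : W →ₗ[k] R) (u : C ⊗[k] W) :
    diffSlice π ι u = 0 ↔
      Algebra.TensorProduct.map (AlgHom.id k C) π (psiSlice π ι u) ∈ KaehlerDifferential.ideal k C ^ 2 := by
  obtain ⟨h, e⟩ := map_psiSlice_mem_ideal π ι u
  rw [← e, toOmega_eq_zero]

end Diagonal

section Equivariance

variable [IsAlgClosed k] [Algebra.FiniteType k A] {C R W : Type u} [CommRing C] [Algebra k C] [CommRing R] [Algebra k R] [AddCommGroup W] [Module k W]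
  [cC : Comod k A C] [GLin.IsCoactAlg k A C] [Comod k A R] [GLin.IsCoactAlg k A R] [cW : Comod k A W]

/-- The equations are equivariant. -/
theorem psiSlice_hit (π : R →ₐ[k] C) (ι : W →ₗ[k] R)
    (hπ : ∀ (g : A →ₐ[k] k) (r : R), π (actAlgHom (R := R) g r) = actAlgHom (R := C) g (π r))
    (hι : ∀ (g : A →ₐ[k] k) (w : W), ι (hit g.toLinearMap w) = actAlgHom (R := R) g (ι w))
    (g : A →ₐ[k] k) (u : C ⊗[k] W) :
    psiSlice π ι (@hit k _ A _ _ _ (C ⊗[k] W) _ _ (ComodTens.Comod.tensor cC cW) g.toLinearMap u) =
      Algebra.TensorProduct.map (actAlgHom (R := C) g) (actAlgHom (R := R) g) (psiSlice π ι u) := by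
  induction u using TensorProduct.induction_on with
  | zero => simp
  | add p q hp hq => simp only [map_add, hp, hq]
  | tmul c w =>
    rw [hit_tensor, psiSlice_tmul, psiSlice_tmul, hι, hπ, map_sub]
    simp only [Algebra.TensorProduct.map_tmul, map_mul, map_one]
    rw [← act_eq_hit, ← actAlgHom_apply]

/-- The kernel of the differential is stable. -/
theorem diffSlice_hit_eq_zero (π : R →ₐ[k] C) (ι : W →ₗ[k] R)
    (hπ : ∀ (g : A →ₐ[k] k) (r : R), π (actAlgHom (R := R) g r) = actAlgHom (R := C) g (π r))
    (hι : ∀ (g : A →ₐ[k] k) (w : W), ι (hit g.toLinearMap w) = actAlgHom (R := R) g (ι w))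
    (g : A →ₐ[k] k) {u : C ⊗[k] W} (hu : diffSlice π ι u = 0) :
    diffSlice π ι (@hit k _ A _ _ _ (C ⊗[k] W) _ _ (ComodTens.Comod.tensor cC cW) g.toLinearMap u) = 0 := by
  rw [diffSlice_eq_zero_iff] at hu ⊢
  rw [psiSlice_hit π ι hπ hι g u]
  let φ := Algebra.TensorProduct.map (actAlgHom (R := C) g) (actAlgHom (R := C) g)
  have hcomm : ∀ t, Algebra.TensorProduct.map (AlgHom.id k C) π
      (Algebra.TensorProduct.map (actAlgHom (R := C) g) (actAlgHom (R := R) g) t) =
      φ (Algebra.TensorProduct.map (AlgHom.id k C) π t) := by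
    intro t
    induction t using TensorProduct.induction_on with
    | zero => simp
    | add p q hp hq => simp only [map_add, hp, hq]
    | tmul c r => simp [φ, hπ]
  rw [hcomm]
  have hle : (KaehlerDifferential.ideal k C).map φ.toRingHom ≤ KaehlerDifferential.ideal k C := by
    rw [Ideal.map_le_iff_le_comap]
    intro t ht
    have hm : ∀ t, Algebra.TensorProduct.lmul' k (φ t) = actAlgHom (R := C) g (Algebra.TensorProduct.lmul' k (S := C) t) := by
      intro t
      induction t using TensorProduct.induction_on with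
      | zero => simp
      | add p q hp hq => simp only [map_add, hp, hq]
      | tmul c r => simp [φ]
    rw [Ideal.mem_comap]
    show Algebra.TensorProduct.lmul' k (φ t) = 0
    rw [hm, show Algebra.TensorProduct.lmul' k (S := C) t = 0 from ht, map_zero]
  have h2 := Ideal.mem_map_of_mem φ.toRingHom hu
  rw [Ideal.map_pow] at h2
  exact Ideal.pow_right_mono hle 2 h2

end Equivariance

end Groth.Agent.Luna8
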