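import Mathlib.RingTheory.Etale.Locus
import Mathlib.RingTheory.Smooth.Basic
import Mathlib.RingTheory.Derivation.ToSquareZero
import Mathlib.RingTheory.Nakayama
import Mathlib.RingTheory.OrzechProperty
import Mathlib.RingTheory.Ideal.Quotient.Nilpotent
import Mathlib.Algebra.Module.Torsion.Basic

/-!
# An étale neighbourhood cut out by a complement of the differentials

`C` and `R` are algebras, `C` smooth, `W` a space of elements of `R` with images in `C` whose
differentials span `Ω[C⁄k]`, `σ` a section of `C ⊗ W → Ω[C⁄k]`.  The quotient of `C ⊗ R` by the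
equations `Σ c ⊗ w - c·w̄ ⊗ 1` in the image of `σ` is étale over `R` at the points of the diagonal.
-/

open TensorProduct

universe u

namespace Groth.Agent.Luna8

set_option linter.unusedSectionVars false
set_option maxHeartbeats 1000000

variable {k : Type u} [Field k] {C : Type u} [CommRing C] [Algebra k C]
  {R : Type u} [CommRing R] [Algebra k R] {W : Type u} [AddCommGroup W] [Module k W]

/-- `c ⊗ w ↦ c ⊗ w - c·w̄ ⊗ 1`. -/
noncomputable def psiSlice (π : R →ₐ[k] C) (ι : W →ₗ[k] R) : C ⊗[k] W →ₗ[C] C ⊗[k] R :=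
  LinearMap.liftBaseChange C
    ((TensorProduct.mk k C R 1) ∘ₗ ι - (TensorProduct.mk k C R).flip 1 ∘ₗ π.toLinearMap ∘ₗ ι)

theorem psiSlice_tmul (π : R →ₐ[k] C) (ι : W →ₗ[k] R) (c : C) (w : W) :
    psiSlice π ι (c ⊗ₜ w) = c ⊗ₜ ι w - (c * π (ι w)) ⊗ₜ 1 := by
  simp [psiSlice, TensorProduct.smul_tmul']

/-- The differential `c ⊗ w ↦ c • d w̄`. -/
noncomputable def diffSlice (π : R →ₐ[k] C) (ι : W →ₗ[k] R) : C ⊗[k] W →ₗ[C] Ω[C⁄k] :=
  LinearMap.liftBaseChange C ((KaehlerDifferential.D k C).toLinearMap ∘ₗ π.toLinearMap ∘ₗ ι)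

theorem diffSlice_tmul (π : R →ₐ[k] C) (ι : W →ₗ[k] R) (c : C) (w : W) :
    diffSlice π ι (c ⊗ₜ w) = c • KaehlerDifferential.D k C (π (ι w)) := by
  simp [diffSlice]

variable [Algebra.FormallySmooth k C] [Module.Finite C Ω[C⁄k]]
  {E : Type u} [CommRing E] [Algebra k E] [Algebra R E] [IsScalarTower k R E]

/-- The slice is étale over `R` at the diagonal. -/
theorem isEtaleAt_slice (π : R →ₐ[k] C) (ι : W →ₗ[k] R) (σ : Ω[C⁄k] →ₗ[C] C ⊗[k] W)
    (hσ : ∀ ω, diffSlice π ι (σ ω) = ω)
    (θ : C ⊗[k] R →ₐ[k] E) (hθs : Function.Surjective θ) (hθR : ∀ r, θ (1 ⊗ₜ r) = algebraMap R E r)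
    (hker : RingHom.ker θ.toRingHom = Ideal.span (Set.range fun ω => psiSlice π ι (σ ω)))
    (q : Ideal E) [q.IsPrime] (hq : ∀ w, θ (psiSlice π ι (1 ⊗ₜ w)) ∈ q) :
    Algebra.IsEtaleAt R q := by
  classical
  let E' := Localization.AtPrime q
  let θ' : C ⊗[k] R →ₐ[k] E' := (IsScalarTower.toAlgHom k E E').comp θ
  let inC : C →ₐ[k] E' := θ'.comp Algebra.TensorProduct.includeLeft
  let _ : Algebra C E' := inC.toRingHom.toAlgebra
  have : IsScalarTower k C E' := IsScalarTower.of_algebraMap_eq fun c => (inC.commutes c).symm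
  have hinC : ∀ c, algebraMap C E' c = θ' (c ⊗ₜ 1) := fun c => rfl
  have hθ'R : ∀ r, θ' (1 ⊗ₜ r) = algebraMap R E' r := fun r => by
    show algebraMap E E' (θ _) = _
    rw [hθR, ← IsScalarTower.algebraMap_apply R E E']
  let D := KaehlerDifferential.D k C
  let M := E' ⊗[C] Ω[C⁄k]
  let e : W → E' := fun w => θ' (psiSlice π ι (1 ⊗ₜ w))
  -- the error term
  let L : C ⊗[k] W →ₗ[k] M := TensorProduct.lift (LinearMap.mk₂ k (fun c w => e w ⊗ₜ[C] D c)
    (fun a b w => by simp only [map_add, TensorProduct.tmul_add])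
    (fun a b w => by rw [D.map_smul, TensorProduct.tmul_smul])
    (fun c v w => by simp only [e, TensorProduct.tmul_add, map_add, TensorProduct.add_tmul])
    (fun a c w => by
      simp only [e, TensorProduct.tmul_smul, LinearMap.map_smul_of_tower, map_smul]
      rw [TensorProduct.smul_tmul']))
  have hL : ∀ c w, L (c ⊗ₜ w) = e w ⊗ₜ[C] D c := fun c w => rfl
  have hLsmul : ∀ (a : C) (u : C ⊗[k] W), L (a • u) = a • L u + θ' (psiSlice π ι u) ⊗ₜ[C] D a := by
    intro a u
    induction u using TensorProduct.induction_on with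
    | zero => simp
    | add p q hp hq =>
      simp only [smul_add, map_add, hp, hq, TensorProduct.add_tmul]
      abel
    | tmul c w =>
      rw [TensorProduct.smul_tmul', smul_eq_mul, hL, hL, D.leibniz, TensorProduct.tmul_add, TensorProduct.tmul_smul]
      congr 1
      rw [TensorProduct.tmul_smul, TensorProduct.smul_tmul', Algebra.smul_def, hinC]
      congr 1
      simp only [e, psiSlice_tmul, ← map_mul, mul_sub, Algebra.TensorProduct.tmul_mul_tmul, mul_one, one_mul]
  have hK : ∀ ω, θ' (psiSlice π ι (σ ω)) = 0 := fun ω => by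
    have h : psiSlice π ι (σ ω) ∈ RingHom.ker θ.toRingHom := hker ▸ Ideal.subset_span ⟨ω, rfl⟩
    show algebraMap E E' (θ _) = 0
    rw [show θ (psiSlice π ι (σ ω)) = 0 from h, map_zero]
  let Err : Ω[C⁄k] →ₗ[C] M :=
    { toFun := fun ω => L (σ ω)
      map_add' := fun a b => by simp only [map_add]
      map_smul' := fun a ω => by rw [map_smul, hLsmul, hK, TensorProduct.zero_tmul, add_zero]; rfl }
  let ErrE : M →ₗ[E'] M := Err.liftBaseChange E'
  let Φ : M →ₗ[E'] M := ErrE - LinearMap.id
  -- `Φ` is bijective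
  let mE := IsLocalRing.maximalIdeal E'
  have he : ∀ w, e w ∈ mE := fun w => by
    show algebraMap E E' (θ _) ∈ _
    exact (IsLocalization.AtPrime.to_map_mem_maximal_iff E' q _).2 (hq w)
  have hErr : ∀ m, ErrE m ∈ mE • (⊤ : Submodule E' M) := by
    have hLm : ∀ u, L u ∈ mE • (⊤ : Submodule E' M) := by
      intro u
      induction u using TensorProduct.induction_on with
      | zero => simp
      | add p q hp hq => rw [map_add]; exact add_mem hp hq
      | tmul c w =>
        rw [hL, show e w ⊗ₜ[C] D c = e w • ((1 : E') ⊗ₜ[C] D c) by rw [TensorProduct.smul_tmul', smul_eq_mul, mul_one]]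
        exact Submodule.smul_mem_smul (he w) trivial
    intro m
    induction m using TensorProduct.induction_on with
    | zero => simp
    | add p q hp hq => rw [map_add]; exact add_mem hp hq
    | tmul x ω =>
      rw [show ErrE (x ⊗ₜ ω) = x • L (σ ω) from rfl]
      exact Submodule.smul_mem _ _ (hLm _)
  have hΦs : Function.Surjective Φ := by
    rw [← LinearMap.range_eq_top]
    refine eq_top_iff.2 (Submodule.le_of_le_smul_of_le_jacobson_bot Module.Finite.fg_top
      (IsLocalRing.maximalIdeal_le_jacobson _) fun m _ => ?_)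
    rw [show m = (-Φ m) + ErrE m by simp [Φ]]
    exact Submodule.add_mem_sup (neg_mem ⟨m, rfl⟩) (hErr m)
  have hΦi : Function.Injective Φ := OrzechProperty.injective_of_surjective_endomorphism Φ hΦs
  show Algebra.FormallyEtale R E'
  rw [Algebra.FormallyEtale.iff_comp_bijective]
  intro B _ _ I hI
  let _ : Algebra k B := ((algebraMap R B).comp (algebraMap k R)).toAlgebra
  have : IsScalarTower k R B := IsScalarTower.of_algebraMap_eq fun _ => rfl
  have htor : Module.IsTorsionBySet B I (I : Set B) := fun x a => Subtype.ext (by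
    have h := Ideal.mul_mem_mul a.2 x.2
    rw [← pow_two, hI, Ideal.mem_bot] at h
    exact h)
  let _ : Module (B ⧸ I) I := htor.module
  have hnil : IsNilpotent I := ⟨2, hI⟩
  -- the main computation
  have key : ∀ f : E' →ₐ[R] B ⧸ I,
      (∃ g : E' →ₐ[R] B, (Ideal.Quotient.mkₐ R I).comp g = f) ∧
      ∀ g₁ g₂ : E' →ₐ[R] B, (Ideal.Quotient.mkₐ R I).comp g₁ = f → (Ideal.Quotient.mkₐ R I).comp g₂ = f → g₁ = g₂ := by
    intro f
    let fk : E' →ₐ[k] B ⧸ I := f.restrictScalars k
    let γ₀ : C →ₐ[k] B := Algebra.FormallySmooth.lift I hnil (fk.comp inC)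
    let _ : Algebra C B := γ₀.toRingHom.toAlgebra
    have : IsScalarTower k C B := IsScalarTower.of_algebraMap_eq fun c => (γ₀.commutes c).symm
    have hγ₀ : ∀ c, Ideal.Quotient.mk I (γ₀ c) = f (θ' (c ⊗ₜ 1)) := fun c =>
      Algebra.FormallySmooth.mk_lift I hnil (fk.comp inC) c
    let _ : Module E' I := Module.compHom _ f.toRingHom
    have hsm : ∀ (x : E') (b : B) (i : I), Ideal.Quotient.mk I b = f x → ((x • i : I) : B) = b * i := by
      intro x b i hb
      show ((f x • i : I) : B) = _
      rw [← hb]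
      rfl
    have : IsScalarTower C E' I := ⟨fun c x i => Subtype.ext (by
      obtain ⟨b, hb⟩ := Ideal.Quotient.mk_surjective (f x)
      rw [Submodule.coe_smul_of_tower, hsm x b i hb, Algebra.smul_def, hsm _ (γ₀ c * b) i (by
        rw [map_mul, map_mul, hγ₀, hb]; rfl), Algebra.smul_def, mul_assoc]
      rfl)⟩
    -- evaluation of a lift on the equations
    let lam : (C →ₐ[k] B) → (C ⊗[k] R →ₐ[k] B) := fun γ =>
      Algebra.TensorProduct.lift γ (IsScalarTower.toAlgHom k R B) fun _ _ => Commute.all _ _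
    have hlamf : ∀ γ : C →ₐ[k] B, (∀ c, Ideal.Quotient.mk I (γ c) = f (θ' (c ⊗ₜ 1))) →
        ∀ t, Ideal.Quotient.mk I (lam γ t) = f (θ' t) := by
      intro γ hγ t
      induction t using TensorProduct.induction_on with
      | zero => simp
      | add p q hp hq => simp only [map_add, hp, hq]
      | tmul c r =>
        rw [show lam γ (c ⊗ₜ r) = γ c * algebraMap R B r from Algebra.TensorProduct.lift_tmul _ _ _ c r,
          map_mul, hγ, show c ⊗ₜ[k] r = (c ⊗ₜ 1) * ((1 : C) ⊗ₜ r) by simp, map_mul θ', map_mul f, hθ'R,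
          AlgHom.commutes, Ideal.Quotient.mk_algebraMap]
    -- variation
    have hvar : ∀ (δ : Derivation k C I) (u : C ⊗[k] W),
        lam (liftOfDerivationToSquareZero I hI δ) (psiSlice π ι u) = lam γ₀ (psiSlice π ι u) +
          ((LinearMap.liftBaseChange E' δ.liftKaehlerDifferential) (L u - (1 : E') ⊗ₜ[C] diffSlice π ι u) : I) := by
      intro δ u
      induction u using TensorProduct.induction_on with
      | zero => simp
      | add p q hp hq =>
        simp only [map_add, TensorProduct.tmul_add, add_sub_add_comm, Submodule.coe_add, hp, hq]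
        abel
      | tmul c w =>
        have hl : ∀ (γ : C →ₐ[k] B), lam γ (psiSlice π ι (c ⊗ₜ w)) =
            γ c * (algebraMap R B (ι w) - γ (π (ι w))) := fun γ => by
          rw [psiSlice_tmul, map_sub]
          simp only [lam, Algebra.TensorProduct.lift_tmul, map_one, mul_one, map_mul, IsScalarTower.coe_toAlgHom', mul_sub]
        rw [hl, hl, hL, diffSlice_tmul, TensorProduct.tmul_smul, map_sub, LinearMap.map_smul_of_tower,
          LinearMap.liftBaseChange_tmul, LinearMap.liftBaseChange_tmul, one_smul,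
          Derivation.liftKaehlerDifferential_comp_D, Derivation.liftKaehlerDifferential_comp_D,
          AddSubgroupClass.coe_sub, hsm (e w) (algebraMap R B (ι w) - γ₀ (π (ι w))) _ (by
            rw [map_sub, hγ₀, Ideal.Quotient.mk_algebraMap]
            simp only [e, psiSlice_tmul, one_mul, map_sub, hθ'R, AlgHom.commutes]),
          Submodule.coe_smul_of_tower, Algebra.smul_def]
        simp only [liftOfDerivationToSquareZero_apply]
        have hz : (δ c : B) * (δ (π (ι w)) : B) = 0 := by
          have h := Ideal.mul_mem_mul (δ c).2 (δ (π (ι w))).2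
          rwa [← pow_two, hI, Ideal.mem_bot] at h
        show ((δ c : B) + γ₀ c) * (algebraMap R B (ι w) - ((δ (π (ι w)) : B) + γ₀ (π (ι w)))) = _ + (_ - γ₀ c * _)
        linear_combination (-1 : B) * hz
    -- consequence on the equations
    have hvarσ : ∀ (δ : Derivation k C I) (ω : Ω[C⁄k]),
        lam (liftOfDerivationToSquareZero I hI δ) (psiSlice π ι (σ ω)) = lam γ₀ (psiSlice π ι (σ ω)) +
          ((LinearMap.liftBaseChange E' δ.liftKaehlerDifferential) (Φ ((1 : E') ⊗ₜ[C] ω)) : I) := by
      intro δ ω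
      have hΦω : Φ ((1 : E') ⊗ₜ[C] ω) = L (σ ω) - (1 : E') ⊗ₜ[C] ω := by
        show ErrE ((1 : E') ⊗ₜ[C] ω) - (1 : E') ⊗ₜ[C] ω = _
        rw [show ErrE ((1 : E') ⊗ₜ[C] ω) = (1 : E') • L (σ ω) from rfl, one_smul]
      rw [hvar, hσ, hΦω]
    have hV : ∀ ω, lam γ₀ (psiSlice π ι (σ ω)) ∈ I := fun ω => by
      rw [← Ideal.Quotient.eq_zero_iff_mem, hlamf γ₀ hγ₀, hK, map_zero]
    refine ⟨?_, ?_⟩
    · let V₀ : Ω[C⁄k] →ₗ[C] I :=
        { toFun := fun ω => ⟨lam γ₀ (psiSlice π ι (σ ω)), hV ω⟩
          map_add' := fun a b => Subtype.ext (by simp)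
          map_smul' := fun a ω => Subtype.ext (by
            show lam γ₀ (psiSlice π ι (σ (a • ω))) = ((a • (⟨_, hV ω⟩ : I) : I) : B)
            rw [map_smul, map_smul, Submodule.coe_smul_of_tower, Algebra.smul_def, Algebra.smul_def, map_mul,
              Algebra.TensorProduct.algebraMap_apply, Algebra.algebraMap_self_apply]
            simp only [lam, Algebra.TensorProduct.lift_tmul, map_one, mul_one]
            rfl) }
      let Ψ := (LinearEquiv.ofBijective Φ ⟨hΦi, hΦs⟩)
      let δhat : M →ₗ[E'] I := (-(V₀.liftBaseChange E')) ∘ₗ Ψ.symm.toLinearMap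
      let δ : Derivation k C I :=
        ((δhat.restrictScalars C) ∘ₗ (TensorProduct.mk C E' Ω[C⁄k] 1)).compDer D
      have hδ : LinearMap.liftBaseChange E' δ.liftKaehlerDifferential = δhat := by
        refine TensorProduct.AlgebraTensorModule.ext fun x ω => ?_
        rw [LinearMap.liftBaseChange_tmul, show δ.liftKaehlerDifferential ω = δhat (1 ⊗ₜ ω) from ?_, ← map_smul,
          TensorProduct.smul_tmul', smul_eq_mul, mul_one]
        exact LinearMap.congr_fun (Derivation.liftKaehlerDifferential_unique δ.liftKaehlerDifferential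
          ((δhat.restrictScalars C) ∘ₗ (TensorProduct.mk C E' Ω[C⁄k] 1))
          (Derivation.ext fun c => Derivation.liftKaehlerDifferential_comp_D δ c)) ω
      let γ := liftOfDerivationToSquareZero I hI δ
      have hγ : ∀ c, Ideal.Quotient.mk I (γ c) = f (θ' (c ⊗ₜ 1)) := fun c => by
        rw [liftOfDerivationToSquareZero_mk_apply, ← hγ₀]; rfl
      have hzero : ∀ ω, lam γ (psiSlice π ι (σ ω)) = 0 := by
        intro ω
        rw [hvarσ, hδ]
        have hs : Ψ.symm (Φ ((1 : E') ⊗ₜ[C] ω)) = (1 : E') ⊗ₜ[C] ω := Ψ.symm_apply_apply _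
        simp only [δhat, LinearMap.comp_apply, LinearEquiv.coe_coe, hs, LinearMap.neg_apply,
          LinearMap.liftBaseChange_tmul, one_smul, V₀, LinearMap.coe_mk, AddHom.coe_mk, NegMemClass.coe_neg, add_neg_cancel]
      have hle : RingHom.ker θ.toRingHom ≤ RingHom.ker (lam γ).toRingHom := by
        rw [hker, Ideal.span_le]
        rintro _ ⟨ω, rfl⟩
        exact hzero ω
      let g₀ : E →+* B := θ.toRingHom.liftOfSurjective hθs ⟨(lam γ).toRingHom, hle⟩
      have hg₀ : ∀ t, g₀ (θ t) = lam γ t := fun t =>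
        RingHom.liftOfRightInverse_comp_apply _ _ _ ⟨(lam γ).toRingHom, hle⟩ t
      let g₁ : E →ₐ[R] B :=
        { g₀ with
          commutes' := fun r => by
            show g₀ (algebraMap R E r) = _
            rw [← hθR, hg₀]
            simp only [lam, Algebra.TensorProduct.lift_tmul, map_one, one_mul]
            rfl }
      have hmk : ∀ x : E, Ideal.Quotient.mk I (g₁ x) = f (algebraMap E E' x) := fun x => by
        obtain ⟨t, rfl⟩ := hθs x
        show Ideal.Quotient.mk I (g₀ (θ t)) = _
        rw [hg₀, hlamf γ hγ]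
        rfl
      have hu : ∀ s : q.primeCompl, IsUnit (g₁ (s : E)) := fun s => by
        rw [← hnil.isUnit_quotient_mk_iff, hmk]
        exact (IsLocalization.map_units E' s).map f
      refine ⟨IsLocalization.liftAlgHom (f := g₁) hu, IsLocalization.algHom_ext q.primeCompl (AlgHom.ext fun x => ?_)⟩
      show Ideal.Quotient.mk I (IsLocalization.liftAlgHom (f := g₁) hu (algebraMap E E' x)) = _
      rw [IsLocalization.liftAlgHom_apply, IsLocalization.lift_eq]
      exact hmk x
    · intro g₁ g₂ h₁ h₂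
      let ev : (E' →ₐ[R] B) → (C →ₐ[k] B) := fun g => (g.restrictScalars k).comp inC
      have hev : ∀ g, (Ideal.Quotient.mkₐ R I).comp g = f →
          ∃ δ : Derivation k C I, liftOfDerivationToSquareZero I hI δ = ev g ∧
            ∀ ω, ((LinearMap.liftBaseChange E' δ.liftKaehlerDifferential) (Φ ((1 : E') ⊗ₜ[C] ω)) : B) =
              - lam γ₀ (psiSlice π ι (σ ω)) := by
        intro g hg
        have hcomp : (Ideal.Quotient.mkₐ k I).comp (ev g) = IsScalarTower.toAlgHom k C (B ⧸ I) :=
          AlgHom.ext fun c => by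
            show (Ideal.Quotient.mkₐ R I).comp g (inC c) = algebraMap C (B ⧸ I) c
            rw [hg, ← Ideal.Quotient.mk_algebraMap]
            exact (hγ₀ c).symm
        have h1 : liftOfDerivationToSquareZero I hI (derivationToSquareZeroOfLift I hI (ev g) hcomp) = ev g :=
          AlgHom.ext fun c => sub_add_cancel _ _
        refine ⟨_, h1, fun ω => ?_⟩
        have h := hvarσ (derivationToSquareZeroOfLift I hI (ev g) hcomp) ω
        rw [h1] at h
        have h0 : lam (ev g) (psiSlice π ι (σ ω)) = 0 := by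
          have : lam (ev g) = (g.restrictScalars k).comp θ' :=
            Algebra.TensorProduct.ext (AlgHom.ext fun c => by simp [lam, ev, inC]) (AlgHom.ext fun r => by
              simp [lam, hθ'R])
          rw [this, AlgHom.comp_apply, hK, map_zero]
        rw [h0] at h
        linear_combination -h
      obtain ⟨δ₁, hδ₁, hv₁⟩ := hev g₁ h₁
      obtain ⟨δ₂, hδ₂, hv₂⟩ := hev g₂ h₂
      have hΦeq : LinearMap.liftBaseChange E' δ₁.liftKaehlerDifferential ∘ₗ Φ =
          LinearMap.liftBaseChange E' δ₂.liftKaehlerDifferential ∘ₗ Φ := by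
        refine TensorProduct.AlgebraTensorModule.ext fun x ω => ?_
        rw [show x ⊗ₜ[C] ω = x • ((1 : E') ⊗ₜ[C] ω) by rw [TensorProduct.smul_tmul', smul_eq_mul, mul_one],
          map_smul, map_smul]
        exact congrArg (x • ·) (Subtype.ext ((hv₁ ω).trans (hv₂ ω).symm))
      have hδeq : δ₁ = δ₂ := Derivation.ext fun c => by
        obtain ⟨m, hm⟩ := hΦs ((1 : E') ⊗ₜ[C] D c)
        have h := LinearMap.congr_fun hΦeq m
        simp only [LinearMap.comp_apply, hm, LinearMap.liftBaseChange_tmul, one_smul,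
          Derivation.liftKaehlerDifferential_comp_D, D] at h
        exact h
      have hC : ev g₁ = ev g₂ := by rw [← hδ₁, ← hδ₂, hδeq]
      refine IsLocalization.algHom_ext q.primeCompl (AlgHom.ext fun x => ?_)
      obtain ⟨t, rfl⟩ := hθs x
      show g₁ (θ' t) = g₂ (θ' t)
      have hall : (g₁.restrictScalars k).comp θ' = (g₂.restrictScalars k).comp θ' :=
        Algebra.TensorProduct.ext hC (AlgHom.ext fun r => by simp [hθ'R])
      exact AlgHom.congr_fun hall t
  exact ⟨fun g₁ g₂ h => (key _).2 g₁ g₂ h rfl |> fun h' => h', fun f => (key f).1⟩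

end Groth.Agent.Luna8
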