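import Groth.Agent.Luna8.SliceEquiv
import Groth.Agent.Luna8.Cartesian
import Groth.Agent.CohDer1.SubspaceStab
import Groth.Agent.HopfLib.Cartier
import Groth.Prelude.Def_ComodSub

/-!
# The slice neighbourhood of a closed orbit
-/

open TensorProduct HopfRep Coalgebra

universe u

namespace Groth.Agent.Luna8

open Groth.Agent.HopfLib

set_option linter.unusedSectionVars false
set_option maxHeartbeats 1600000
set_option synthInstance.maxHeartbeats 200000

variable {k : Type u} [Field k] {A : Type u} [CommRing A] [HopfAlgebra k A]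
  {R : Type u} [CommRing R] [Algebra k R] [Comod k A R] [GLin.IsCoactAlg k A R]

/-- The stabiliser of a point is a subgroup scheme. -/
theorem stabIdeal_isHopfIdeal [Algebra.FiniteType k R] (x : R →ₐ[k] k) :
    (GLin.stabIdeal k A x).IsHopfIdeal k := by
  obtain ⟨s, hs⟩ := Algebra.FiniteType.out (R := k) (A := R)
  obtain ⟨W, hW, hsW, hWs⟩ := exists_finite_subcomod (k := k) (A := A) (V := R) (insert 1 (s : Set R)) (s.finite_toSet.insert 1)
  let W' : Submodule k R := W ⊓ LinearMap.ker x.toLinearMap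
  have : Module.Finite k W := hW
  have : Module.Finite k W' := Submodule.finiteDimensional_inf_left _ _
  have h1W : (1 : R) ∈ W := hsW (Set.mem_insert _ _)
  have heq : GLin.stabIdeal k A x = CohDer1.SubspaceStab.stabIdeal (k := k) A W' := by
    refine le_antisymm ?_ ?_
    · rw [GLin.stabIdeal, Ideal.map_le_iff_le_comap]
      have key : ∀ r : R, r - algebraMap k R (x r) ∈ (CohDer1.SubspaceStab.stabIdeal (k := k) A W').comap (GLin.orbitHom k A x) := by
        intro r
        have hr : r ∈ Algebra.adjoin k (s : Set R) := hs ▸ trivial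
        induction hr using Algebra.adjoin_induction with
        | mem w hw =>
          have hw' : w - algebraMap k R (x w) ∈ W := by
            rw [Algebra.algebraMap_eq_smul_one]
            exact sub_mem (hsW (Set.mem_insert_of_mem _ hw)) (W.smul_mem _ h1W)
          obtain ⟨f, hf⟩ : ∃ f : R →ₗ[k] k, f = x.toLinearMap := ⟨_, rfl⟩
          rw [Ideal.mem_comap, orbitHom_eq_cf]
          exact Ideal.subset_span ⟨x.toLinearMap, _, fun y hy => hy.2, ⟨hw', by simp⟩, rfl⟩
        | algebraMap c => simp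
        | add a b _ _ ha hb =>
          rw [map_add, map_add, add_sub_add_comm]
          exact add_mem ha hb
        | mul a b _ _ ha hb =>
          rw [show a * b - algebraMap k R (x (a * b)) =
            (a - algebraMap k R (x a)) * b + algebraMap k R (x a) * (b - algebraMap k R (x b)) by
              rw [map_mul, map_mul]; ring]
          exact add_mem (Ideal.mul_mem_right _ _ ha) (Ideal.mul_mem_left _ _ hb)
      intro r hr
      have := key r
      rwa [show x r = 0 from hr, map_zero, sub_zero] at this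
    · rw [CohDer1.SubspaceStab.stabIdeal, Ideal.span_le]
      rintro _ ⟨f, w, hf, hw, rfl⟩
      have hfx : ∀ y ∈ W, f y = f 1 * x y := fun y hy => by
        have h := hf (y - x y • (1 : R)) ⟨sub_mem hy (W.smul_mem _ h1W), by simp⟩
        rw [map_sub, map_smul, sub_eq_zero, smul_eq_mul, mul_comm] at h
        exact h
      obtain ⟨t, ht⟩ := hWs w hw.1
      have hcf : cf (A := A) f w = f 1 • cf (A := A) x.toLinearMap w := by
        rw [cf_apply, cf_apply, ← ht]
        clear ht
        induction t using TensorProduct.induction_on with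
        | zero => simp
        | add p q hp hq => simp only [map_add, hp, hq, smul_add]
        | tmul y a => simp [hfx y y.2, smul_smul]
      rw [hcf, ← orbitHom_eq_cf, Algebra.smul_def]
      exact Ideal.mul_mem_left _ _ (Ideal.mem_map_of_mem _ (RingHom.mem_ker.2 hw.2))
  rw [heq]
  exact CohDer1.SubspaceStab.isHopfIdeal A W'

variable [IsAlgClosed k] [Algebra.FiniteType k A]

/-- In characteristic zero inclusions of stabilisers are detected on points. -/
theorem stabIdeal_le_of_points [CharZero k] [Algebra.FiniteType k R] (x y : R →ₐ[k] k)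
    (h : ∀ g ∈ stabPts A y, g ∈ stabPts A x) : GLin.stabIdeal k A x ≤ GLin.stabIdeal k A y := by
  have := stabIdeal_isHopfIdeal (A := A) y
  have : IsReduced (A ⧸ GLin.stabIdeal k A y) := isReduced_of_charZero (k := k)
  intro a ha
  by_contra hne
  obtain ⟨c, hc⟩ := exists_algHom_ne_zero (k := k) (f := Ideal.Quotient.mk (GLin.stabIdeal k A y) a)
    (fun hn => hne (Ideal.Quotient.eq_zero_iff_mem.1 hn.eq_zero))
  exact hc ((le_ker_iff_mem_stabPts x (c.comp (Ideal.Quotient.mkₐ k _))).2
    (h _ ((le_ker_iff_mem_stabPts y _).1 fun b hb => by simp [Ideal.Quotient.eq_zero_iff_mem.2 hb])) ha)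

/-- The quotient of a coaction by a stable ideal. -/
theorem exists_quot_comod [IsReduced A] (I : Ideal R)
    (hI : ∀ g : A →ₐ[k] k, ∀ r ∈ I, actAlgHom (R := R) g r ∈ I) :
    ∃ (c : Comod k A (R ⧸ I)) (_ : @GLin.IsCoactAlg k _ A _ _ (R ⧸ I) _ _ c),
      @IsEquiv k _ A R (R ⧸ I) _ _ _ _ _ _ _ c _ _ := by
  have hsub : IsSubcomod (k := k) (A := A) (I.restrictScalars k) :=
    isSubcomod_iff_hit.2 fun α _ hv => hit_mem_of_forall_act_mem I hI α hv
  let e := Submodule.Quotient.restrictScalarsEquiv k I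
  let c : Comod k A (R ⧸ I) :=
    ComodTens.Comod.ofEquiv e (ComodSub.Comod.quot inferInstance (I.restrictScalars k) hsub)
  have he : ∀ r, c.coact (Ideal.Quotient.mk I r) =
      Algebra.TensorProduct.map (IsScalarTower.toAlgHom k R (R ⧸ I)) (AlgHom.id k A) (Comod.coact (k := k) (A := A) r) := by
    intro r
    show c.coact (e (Submodule.Quotient.mk r)) = _
    rw [ComodTens.ofEquiv_coact_apply, ComodSub.quot_coact_mk]
    generalize Comod.coact (k := k) (A := A) r = t
    induction t using TensorProduct.induction_on with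
    | zero => simp
    | add p q hp hq => simp only [map_add, hp, hq]
    | tmul a b => rfl
  refine ⟨c, @GLin.IsCoactAlg.mk k _ A _ _ (R ⧸ I) _ _ c ?_ fun a b => ?_, fun r => he r⟩
  · show c.coact 1 = 1
    rw [← map_one (Ideal.Quotient.mk I), he, GLin.IsCoactAlg.coact_one (k := k) (A := A) (R := R), map_one]
  · obtain ⟨a, rfl⟩ := Ideal.Quotient.mk_surjective a
    obtain ⟨b, rfl⟩ := Ideal.Quotient.mk_surjective b
    show c.coact _ = c.coact _ * c.coact _
    rw [← map_mul, he, he, he, GLin.IsCoactAlg.coact_mul, map_mul]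

variable [IsDomain A] [Algebra.FiniteType k R]
  {C : Type u} [CommRing C] [IsDomain C] [Algebra k C] [Comod k A C] [GLin.IsCoactAlg k A C]

/-- Near a closed orbit the stabilisers are subconjugate to the one of the orbit. -/
theorem exists_nhd_stabPts [CharZero k] (hG : IsLinearlyReductive k A)
    (π : R →ₐ[k] C) (hπs : Function.Surjective π)
    (hπ : ∀ (g : A →ₐ[k] k) (r : R), π (actAlgHom (R := R) g r) = actAlgHom (R := C) g (π r))
    (xC : C →ₐ[k] k) (hC : ∀ c : C →ₐ[k] k, ∃ g : A →ₐ[k] k, c = GLin.actPt k g xC)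
    (hx : GLin.IsClosedOrbit k A (xC.comp π)) :
    ∃ f ∈ GLin.invariants k A R, (xC.comp π) f ≠ 0 ∧ ∀ w : R →ₐ[k] k, w f ≠ 0 →
      ∃ g : A →ₐ[k] k, ∀ h ∈ stabPts A (GLin.actPt k g w), h ∈ stabPts A (xC.comp π) := by
  classical
  have : Algebra.FiniteType k C := ‹Algebra.FiniteType k R›.of_surjective π hπs
  have : Algebra.FormallySmooth k C := formallySmooth_of_homogeneous hC
  obtain ⟨s, hs⟩ := Algebra.FiniteType.out (R := k) (A := R)
  obtain ⟨W, hW, hsW, hWs⟩ := exists_finite_subcomod (k := k) (A := A) (V := R) (s : Set R) s.finite_toSet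
  let cW : Comod k A W := ComodSub.Comod.restr inferInstance W hWs
  let ι : W →ₗ[k] R := W.subtype
  have hι : ∀ (g : A →ₐ[k] k) (w : W), ι (hit g.toLinearMap w) = actAlgHom (R := R) g (ι w) := fun g w => by
    rw [actAlgHom_apply, act_eq_hit]
    exact IsComodHom.hit_apply (ComodSub.isComodHom_subtype inferInstance W hWs) g.toLinearMap w
  -- the differential is surjective
  let d := diffSlice π ι
  have hd : Function.Surjective d := by
    rw [← LinearMap.range_eq_top, eq_top_iff, ← KaehlerDifferential.span_range_derivation, Submodule.span_le]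
    rintro _ ⟨c, rfl⟩
    obtain ⟨r, rfl⟩ := hπs c
    show KaehlerDifferential.D k C (π r) ∈ LinearMap.range d
    have hr : r ∈ Algebra.adjoin k (s : Set R) := hs ▸ trivial
    induction hr using Algebra.adjoin_induction with
    | mem w hw => exact ⟨1 ⊗ₜ ⟨w, hsW hw⟩, by simp [d, diffSlice_tmul, ι]⟩
    | algebraMap c => simp
    | add a b _ _ ha hb => rw [map_add, map_add]; exact add_mem ha hb
    | mul a b _ _ ha hb =>
      rw [map_mul, Derivation.leibniz]
      exact add_mem (Submodule.smul_mem _ _ hb) (Submodule.smul_mem _ _ ha)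
  obtain ⟨σ₀, hσ₀⟩ := Module.projective_lifting_property d LinearMap.id hd
  have hσ₀' : ∀ ω, d (σ₀ ω) = ω := fun ω => LinearMap.congr_fun hσ₀ ω
  let cF : Comod k A (C ⊗[k] W) := ComodTens.Comod.tensor inferInstance cW
  have hsmF : ∀ (g : A →ₐ[k] k) (c : C) (v : C ⊗[k] W),
      hit g.toLinearMap (c • v) = hit g.toLinearMap c • hit g.toLinearMap v := by
    intro g c v
    induction v using TensorProduct.induction_on with
    | zero => simp
    | add p q hp hq => simp only [smul_add, map_add, hp, hq]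
    | tmul b w =>
      rw [TensorProduct.smul_tmul', hit_tensor, hit_tensor, TensorProduct.smul_tmul', smul_eq_mul, smul_eq_mul,
        ← act_eq_hit, ← act_eq_hit, ← act_eq_hit, ← actAlgHom_apply, ← actAlgHom_apply, ← actAlgHom_apply, map_mul]
  obtain ⟨Q, hdQ, hQ0, hQh⟩ := exists_equivariant_retraction hG hsmF d
    (fun g v hv => diffSlice_hit_eq_zero π ι hπ hι g hv) (σ₀ ∘ₗ d)
    (fun v hv => by simp [hv]) (fun v => by simp [hσ₀'])
  let σ : Ω[C⁄k] →ₗ[C] C ⊗[k] W := Q ∘ₗ σ₀
  have hσ : ∀ ω, diffSlice π ι (σ ω) = ω := fun ω => by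
    show d (Q (σ₀ ω)) = ω
    rw [hdQ, hσ₀']
  have hQσ : ∀ v, Q v = σ (d v) := fun v => by
    refine sub_eq_zero.1 ?_
    show Q v - Q (σ₀ (d v)) = 0
    rw [← map_sub]
    exact hQ0 _ (by rw [map_sub, hσ₀', sub_self])
  -- the equations
  let cT : Comod k A (C ⊗[k] R) := ComodTens.Comod.tensor inferInstance inferInstance
  have : GLin.IsCoactAlg k A (C ⊗[k] R) := isCoactAlg_tensor
  let K : Ideal (C ⊗[k] R) := Ideal.span (Set.range fun ω => psiSlice π ι (σ ω))
  have hactT : ∀ g : A →ₐ[k] k, actAlgHom (R := C ⊗[k] R) g =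
      Algebra.TensorProduct.map (actAlgHom (R := C) g) (actAlgHom (R := R) g) := fun g =>
    Algebra.TensorProduct.ext' fun c r => by
      simp only [actAlgHom_apply, act_eq_hit, Algebra.TensorProduct.map_tmul]
      exact hit_tensor g c r
  have hKst : ∀ g : A →ₐ[k] k, ∀ t ∈ K, actAlgHom (R := C ⊗[k] R) g t ∈ K := by
    intro g t ht
    suffices h : K.map (actAlgHom (R := C ⊗[k] R) g).toRingHom ≤ K from h (Ideal.mem_map_of_mem _ ht)
    rw [Ideal.map_span, Ideal.span_le]
    rintro _ ⟨_, ⟨ω, rfl⟩, rfl⟩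
    refine Ideal.subset_span ⟨d (hit g.toLinearMap (σ₀ ω)), ?_⟩
    show psiSlice π ι (σ (d _)) = _
    rw [← hQσ, hQh, psiSlice_hit π ι hπ hι, hactT]
    rfl
  obtain ⟨cE, hcE, hTE⟩ := exists_quot_comod K hKst
  let E := (C ⊗[k] R) ⧸ K
  have : Algebra.FiniteType C (C ⊗[k] R) := Algebra.FiniteType.baseChange (A := R) C
  have : Algebra.FiniteType k (C ⊗[k] R) := Algebra.FiniteType.trans (S := C) ‹_› ‹_›
  let θ : C ⊗[k] R →ₐ[k] E := Ideal.Quotient.mkₐ k K
  let jR : R →ₐ[k] E := θ.comp Algebra.TensorProduct.includeRight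
  let jC : C →ₐ[k] E := θ.comp Algebra.TensorProduct.includeLeft
  let _ : Algebra R E := jR.toRingHom.toAlgebra
  have : IsScalarTower k R E := IsScalarTower.of_algebraMap_eq fun c => (jR.commutes c).symm
  have : Algebra.FiniteType k E := ‹Algebra.FiniteType k (C ⊗[k] R)›.of_surjective θ Ideal.Quotient.mk_surjective
  have hactE : ∀ (g : A →ₐ[k] k) (t : C ⊗[k] R),
      actAlgHom (R := E) g (θ t) = θ (actAlgHom (R := C ⊗[k] R) g t) := fun g t =>
    hTE.actAlgHom_algebraMap g t
  have hjR : ∀ (g : A →ₐ[k] k) (r : R), actAlgHom (R := E) g (jR r) = jR (actAlgHom (R := R) g r) := fun g r => by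
    show actAlgHom (R := E) g (θ (1 ⊗ₜ r)) = θ (1 ⊗ₜ _)
    rw [hactE, hactT, Algebra.TensorProduct.map_tmul, map_one]
  have hjC : ∀ (g : A →ₐ[k] k) (c : C), actAlgHom (R := E) g (jC c) = jC (actAlgHom (R := C) g c) := fun g c => by
    show actAlgHom (R := E) g (θ (c ⊗ₜ 1)) = θ (_ ⊗ₜ 1)
    rw [hactE, hactT, Algebra.TensorProduct.map_tmul, map_one]
  have hequiv : IsEquiv k A R E := fun r => by
    show Comod.coact (k := k) (A := A) (θ (1 ⊗ₜ r)) = _
    rw [show θ ((1 : C) ⊗ₜ[k] r) = algebraMap (C ⊗[k] R) E (1 ⊗ₜ r) from rfl, hTE,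
      show Comod.coact (k := k) (A := A) ((1 : C) ⊗ₜ[k] r) =
        Algebra.TensorProduct.map Algebra.TensorProduct.includeRight (AlgHom.id k A) (Comod.coact (k := k) (A := A) r) from ?_]
    · generalize Comod.coact (k := k) (A := A) r = t
      induction t using TensorProduct.induction_on with
      | zero => simp
      | add p q hp hq => simp only [map_add, hp, hq]
      | tmul a b => simp; rfl
    · show cT.coact _ = _
      rw [ComodTens.tensor_coact_tmul, GLin.IsCoactAlg.coact_one (k := k) (A := A) (R := C)]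
      generalize Comod.coact (k := k) (A := A) r = t
      induction t using TensorProduct.induction_on with
      | zero => simp
      | add p q hp hq => simp only [TensorProduct.tmul_add, map_add, hp, hq]
      | tmul a b => simp [Algebra.TensorProduct.one_def]
  -- the point
  let x := xC.comp π
  let xT : C ⊗[k] R →ₐ[k] k := Algebra.TensorProduct.lift xC x fun _ _ => Commute.all _ _
  have hxT : ∀ u, xT (psiSlice π ι u) = 0 := fun u => by
    induction u using TensorProduct.induction_on with
    | zero => simp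
    | add p q hp hq => simp only [map_add, hp, hq, add_zero]
    | tmul c w => simp [xT, x, psiSlice_tmul]
  let xE : E →ₐ[k] k := Ideal.Quotient.liftₐ K xT fun a ha => by
    refine (Ideal.span_le.2 ?_ ha : a ∈ RingHom.ker xT)
    rintro _ ⟨ω, rfl⟩
    exact hxT _
  have hxEθ : ∀ t, xE (θ t) = xT t := fun t => rfl
  have hxER : xE.comp jR = x := AlgHom.ext fun r => by simp [hxEθ, jR, xT]
  have hxEC : xE.comp jC = xC := AlgHom.ext fun c => by simp [hxEθ, jC, xT]
  let q : Ideal E := RingHom.ker xE.toRingHom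
  have : q.IsMaximal := RingHom.ker_isMaximal_of_surjective _ fun c => ⟨algebraMap k E c, AlgHom.commutes xE c⟩
  have het : Algebra.IsEtaleAt R q := isEtaleAt_slice π ι σ hσ θ Ideal.Quotient.mk_surjective (fun r => rfl)
    (Ideal.mk_ker) q fun w => show xE (θ (psiSlice π ι (1 ⊗ₜ w))) = 0 by rw [hxEθ]; exact hxT (1 ⊗ₜ w)
  have hcompR : ∀ (z : E →ₐ[k] k) (g : A →ₐ[k] k), (GLin.actPt k g z).comp jR = GLin.actPt k g (z.comp jR) :=
    fun z g => AlgHom.ext fun r => by
      rw [← comp_actAlgHom, ← comp_actAlgHom]; simp only [AlgHom.comp_apply, hjR]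
  have hcompC : ∀ (z : E →ₐ[k] k) (g : A →ₐ[k] k), (GLin.actPt k g z).comp jC = GLin.actPt k g (z.comp jC) :=
    fun z g => AlgHom.ext fun r => by
      rw [← comp_actAlgHom, ← comp_actAlgHom]; simp only [AlgHom.comp_apply, hjC]
  have hπpt : ∀ (c : C →ₐ[k] k) (g : A →ₐ[k] k), (GLin.actPt k g c).comp π = GLin.actPt k g (c.comp π) :=
    fun c g => AlgHom.ext fun r => by
      rw [← comp_actAlgHom, ← comp_actAlgHom]; simp only [AlgHom.comp_apply, hπ]
  have hinj : ∀ g : A →ₐ[k] k, GLin.actPt k g (xE.comp (IsScalarTower.toAlgHom k R E)) = xE.comp (IsScalarTower.toAlgHom k R E) →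
      GLin.actPt k g xE = xE := by
    intro g hg
    have hg' : GLin.actPt k g (xE.comp jR) = xE.comp jR := hg
    have hC' : GLin.actPt k g xC = xC := AlgHom.ext fun c => by
      obtain ⟨r, rfl⟩ := hπs c
      have := AlgHom.congr_fun (hxER ▸ hg') r
      rw [← hπpt] at this
      exact this
    refine Ideal.Quotient.algHom_ext k (Algebra.TensorProduct.ext ?_ ?_)
    · show (GLin.actPt k g xE).comp jC = xE.comp jC
      rw [hcompC, hxEC, hC']
    · show (GLin.actPt k g xE).comp jR = xE.comp jR
      rw [hcompR, hg']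
  let R₀ := GLin.invariants k A E
  let S₀ := GLin.invariants k A R
  let _ : Algebra S₀ R₀ := (((IsScalarTower.toAlgHom k R E).comp S₀.val).codRestrict R₀
    fun a => hequiv.algebraMap_mem_invariants a.2).toRingHom.toAlgebra
  have : IsScalarTower S₀ R E := IsScalarTower.of_algebraMap_eq fun a => rfl
  have : IsScalarTower S₀ R₀ E := ⟨fun a b e => by
    simp only [Subalgebra.smul_def, Algebra.smul_def, smul_eq_mul, MulMemClass.coe_mul]
    exact mul_assoc _ _ _⟩
  obtain ⟨H, g₀, hne, hcov, -, -, -, -, hgen⟩ := exists_strongly_etale_nhd (S₀ := S₀) (R₀ := R₀) hG hequiv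
    Subtype.val_injective (SetLike.coe_injective Subtype.range_coe) Subtype.val_injective (SetLike.coe_injective Subtype.range_coe) xE q rfl het
    (show GLin.IsClosedOrbit k A (xE.comp jR) from hxER.symm ▸ hx) hinj
  refine ⟨(g₀ : R), g₀.2, fun h0 => hne ?_, fun w hw => ?_⟩
  · rw [map_mul, map_mul, ← IsScalarTower.algebraMap_apply S₀ R₀ E, IsScalarTower.algebraMap_apply S₀ R E]
    show xE _ * (xE.comp jR) (g₀ : R) = 0
    rw [hxER, show x (g₀ : R) = 0 from h0, mul_zero]
  let hH : E := algebraMap R₀ E (H * algebraMap S₀ R₀ g₀)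
  obtain ⟨P, hP, hhP, hPw⟩ := hcov (RingHom.ker w.toRingHom) (RingHom.ker_isPrime _) hw
  obtain ⟨c, hc⟩ := exists_algHom_ne_zero (k := k) (f := Ideal.Quotient.mk P hH)
    (fun hn => hhP (Ideal.Quotient.eq_zero_iff_mem.1 hn.eq_zero))
  let z : E →ₐ[k] k := c.comp (Ideal.Quotient.mkₐ k P)
  have hzR : z.comp jR = w := (algHom_eq_of_ker_le fun r hr => by
    have : algebraMap R E r ∈ P := by rw [← Ideal.mem_comap, hPw]; exact hr
    show c (Ideal.Quotient.mk P (algebraMap R E r)) = 0
    rw [Ideal.Quotient.eq_zero_iff_mem.2 this, map_zero]).symm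
  have hHinv : ∀ g : A →ₐ[k] k, actAlgHom (R := E) g hH = hH := fun g =>
    actAlgHom_of_mem_invariants g (H * algebraMap S₀ R₀ g₀).2
  obtain ⟨g₁, hg₁⟩ := hC (z.comp jC)
  let g := g₁.comp (HopfAlgebra.antipodeAlgHom k A)
  let z' := GLin.actPt k g z
  have hz'C : z'.comp jC = xC := by rw [hcompC, hg₁, actPt_antipode]
  have hz'R : z'.comp jR = GLin.actPt k g w := by rw [hcompR, hzR]
  have hz'H : z' hH ≠ 0 := by
    rw [show z' = z.comp (actAlgHom (R := E) g) from (comp_actAlgHom g z).symm, AlgHom.comp_apply,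
      hHinv]
    exact hc
  refine ⟨g, fun h hh => ?_⟩
  have hh' : GLin.actPt k h (GLin.actPt k g w) = GLin.actPt k g w := hh
  have hfix : GLin.actPt k h z' = z' := AlgHom.ext fun e => by
    obtain ⟨n, t, ht⟩ := hgen e
    have key : ∀ t : R ⊗[S₀] R₀, z' (actAlgHom (R := E) h
        (Algebra.TensorProduct.productMap (IsScalarTower.toAlgHom S₀ R E) (IsScalarTower.toAlgHom S₀ R₀ E) t)) =
        z' (Algebra.TensorProduct.productMap (IsScalarTower.toAlgHom S₀ R E) (IsScalarTower.toAlgHom S₀ R₀ E) t) := by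
      intro t
      induction t using TensorProduct.induction_on with
      | zero => simp
      | add p q hp hq => simp only [map_add, hp, hq]
      | tmul r r₀ =>
        rw [Algebra.TensorProduct.productMap_apply_tmul, map_mul, map_mul, map_mul]
        congr 1
        · show z' (actAlgHom (R := E) h (jR r)) = z' (jR r)
          rw [hjR, ← AlgHom.comp_apply z' jR, ← AlgHom.comp_apply z' jR, hz'R, ← AlgHom.comp_apply _ (actAlgHom h),
            comp_actAlgHom, hh']
        · show z' (actAlgHom (R := E) h (r₀ : E)) = z' (r₀ : E)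
          rw [actAlgHom_of_mem_invariants h r₀.2]
    have h1 := key t
    rw [ht, show algebraMap R₀ E (H * algebraMap S₀ R₀ g₀) = hH from rfl, map_mul (actAlgHom h), map_mul z', map_mul z',
      map_pow (actAlgHom h), hHinv] at h1
    rw [← comp_actAlgHom, AlgHom.comp_apply]
    exact mul_left_cancel₀ (map_pow z' hH n ▸ pow_ne_zero n hz'H) h1
  show GLin.actPt k h x = x
  have hC'' : GLin.actPt k h xC = xC := by rw [← hz'C, ← hcompC, hfix]
  rw [← hπpt, hC'']

end Groth.Agent.Luna8
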