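import Groth.Agent.Luna8.Fundamental
import Mathlib.RingTheory.ZariskisMainTheorem
import Mathlib.RingTheory.Unramified.LocalStructure

/-!
# A finite equivariant model near a point where the map is étale
-/

open TensorProduct HopfRep Coalgebra

universe u

namespace Groth.Agent.Luna8

open Groth.Agent.HopfLib

set_option linter.unusedSectionVars false
set_option maxHeartbeats 800000

variable {k : Type u} [Field k] [IsAlgClosed k] {A : Type u} [CommRing A] [IsDomain A] [HopfAlgebra k A]
  [Algebra.FiniteType k A]
  {S : Type u} [CommRing S] [Algebra k S] [Algebra.FiniteType k S] [Comod k A S] [GLin.IsCoactAlg k A S]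
  {R : Type u} [CommRing R] [Algebra k R] [Algebra.FiniteType k R] [Comod k A R] [GLin.IsCoactAlg k A R]
  [Algebra S R] [IsScalarTower k S R]

/-- A finite stable subalgebra which agrees with the algebra near a point of étaleness. -/
theorem exists_finite_model (hequiv : IsEquiv k A S R) (m : Ideal R) [m.IsPrime] (het : Algebra.IsEtaleAt S m) :
    ∃ (B : Subalgebra S R) (b : R), Module.Finite S B ∧
      IsSubcomod (k := k) (A := A) (B.restrictScalars k).toSubmodule ∧
      b ∈ B ∧ b ∉ m ∧ ∀ r : R, ∃ e : ℕ, b ^ e * r ∈ B := by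
  classical
  have hequiv' := hequiv
  let B₀ := integralClosure S R
  -- slices at points of integral elements are integral
  have hpt : ∀ (g : A →ₐ[k] k) (r : R), r ∈ B₀ →
      Groth.Agent.HopfLib.hit (V := R) g.toLinearMap r ∈ B₀ := by
    intro g r hr
    let cS : S →ₐ[k] S := ((Algebra.TensorProduct.rid k k S).toAlgHom.comp
      (Algebra.TensorProduct.map (AlgHom.id k S) g)).comp (GLin.coactAlgHom k A S)
    let cR : R →ₐ[k] R := ((Algebra.TensorProduct.rid k k R).toAlgHom.comp
      (Algebra.TensorProduct.map (AlgHom.id k R) g)).comp (GLin.coactAlgHom k A R)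
    have hc : ∀ s, cR (algebraMap S R s) = algebraMap S R (cS s) := by
      intro s
      simp only [cS, cR, AlgHom.comp_apply, GLin.coactAlgHom_apply, hequiv' _]
      generalize (HopfRep.Comod.coact (k := k) (A := A) s) = t
      induction t using TensorProduct.induction_on with
      | zero => simp
      | add x y hx hy => simp [map_add, hx, hy]
      | tmul a b => simp [Algebra.smul_def, IsScalarTower.algebraMap_apply k S R]
    have hcR : cR r = Groth.Agent.HopfLib.hit (V := R) g.toLinearMap r := by
      simp only [cR, Groth.Agent.HopfLib.hit_apply, AlgHom.comp_apply, GLin.coactAlgHom_apply]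
      generalize (HopfRep.Comod.coact (k := k) (A := A) r) = t
      induction t using TensorProduct.induction_on with
      | zero => simp
      | add x y hx hy => simp [map_add, hx, hy]
      | tmul a b => simp
    rw [← hcR]
    obtain ⟨p, hp, hp0⟩ := hr
    refine ⟨p.map cS.toRingHom, hp.map _, ?_⟩
    rw [Polynomial.eval₂_map,
      show (algebraMap S R).comp cS.toRingHom = cR.toRingHom.comp (algebraMap S R) from
        RingHom.ext fun s => (hc s).symm]
    exact (Polynomial.hom_eval₂ p (algebraMap S R) cR.toRingHom r).symm.trans (by simp [hp0])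
  let B₀k : Submodule k R := (B₀.restrictScalars k).toSubmodule
  have hstab : HopfRep.IsSubcomod (k := k) (A := A) B₀k := by
    refine Groth.Agent.HopfLib.isSubcomod_iff_hit.2 fun g r hr => ?_
    by_contra hne
    obtain ⟨φ, hφne, hφ0⟩ := Submodule.exists_dual_map_eq_bot_of_notMem hne inferInstance
    have hzero : ∀ t : R ⊗[k] A, ∀ l : A →ₗ[k] k,
        l (Groth.Agent.HopfLib.sliceL φ t) = φ (Groth.Agent.HopfLib.sliceR l t) := by
      intro t l
      induction t using TensorProduct.induction_on with
      | zero => simp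
      | add x y hx hy => simp [map_add, hx, hy]
      | tmul a b => simp [mul_comm]
    have ha : Groth.Agent.HopfLib.cf (A := A) φ r = 0 := by
      by_contra h0
      obtain ⟨x, hx⟩ := Groth.Agent.HopfLib.exists_algHom_ne_zero (k := k)
        (f := Groth.Agent.HopfLib.cf (A := A) φ r) (fun hn => h0 hn.eq_zero)
      apply hx
      exact (hzero _ x.toLinearMap).trans ((Submodule.mem_bot k).1 (hφ0 ▸ Submodule.mem_map_of_mem (hpt x r hr)))
    apply hφne
    rw [Groth.Agent.HopfLib.hit_apply, ← hzero, ← Groth.Agent.HopfLib.cf_apply, ha, map_zero]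
  -- Zariski main theorem
  have : Algebra.FiniteType S R := Algebra.FiniteType.of_restrictScalars_finiteType k S R
  have : IsNoetherianRing S := Algebra.FiniteType.isNoetherianRing k S
  have : Algebra.FinitePresentation S R := Algebra.FinitePresentation.of_finiteType.1 ‹_›
  obtain ⟨f, hf, hfet⟩ := Algebra.exists_etale_of_isEtaleAt (R := S) m
  have hq : Algebra.QuasiFinite S (Localization.Away f) := inferInstance
  let g : Localization.Away f →ₐ[S] Localization.AtPrime m :=
    IsLocalization.liftAlgHom (M := Submonoid.powers f) (f := IsScalarTower.toAlgHom S R (Localization.AtPrime m)) (by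
      rintro ⟨_, e, rfl⟩
      exact IsLocalization.map_units (M := m.primeCompl) (Localization.AtPrime m)
        ⟨f ^ e, fun h => hf (Ideal.IsPrime.mem_of_pow_mem ‹_› e h)⟩)
  have : Algebra.QuasiFiniteAt S m := by
    refine Algebra.QuasiFinite.of_forall_exists_mul_mem_range g fun y => ?_
    obtain ⟨r, ⟨s, hs⟩, rfl⟩ := IsLocalization.exists_mk'_eq m.primeCompl y
    refine ⟨algebraMap R _ s, ?_, algebraMap R _ r, by simp [g]⟩
    rw [show g (algebraMap R _ s) = algebraMap R (Localization.AtPrime m) s by simp [g]]
    exact IsLocalization.map_units (M := m.primeCompl) _ ⟨s, hs⟩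
  obtain ⟨r, hrm, hrint, hsat⟩ := Algebra.zariskisMainProperty_iff.1
    (Algebra.ZariskisMainProperty.of_finiteType (R := S) m)
  choose μ hμ using hsat
  obtain ⟨gens, hgens⟩ := Algebra.FiniteType.out (R := S) (A := R)
  let F : Finset R := insert r (gens.image fun t => r ^ μ t * t)
  have hF : ∀ t ∈ F, t ∈ B₀ := fun t ht => by
    rcases Finset.mem_insert.1 ht with rfl | ht
    · exact hrint
    · obtain ⟨t', -, rfl⟩ := Finset.mem_image.1 ht
      exact hμ t'
  obtain ⟨W, hWfin, hFW, hWs⟩ := Groth.Agent.HopfLib.exists_finite_subcomod (k := k) (A := A) (V := R) (F : Set R) F.finite_toSet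
  let W' : Submodule k R := W ⊓ B₀k
  have hW's : HopfRep.IsSubcomod (k := k) (A := A) W' := Groth.Agent.HopfLib.isSubcomod_inf hWs hstab
  have : Module.Finite k W' := Submodule.finiteDimensional_inf_left W B₀k
  obtain ⟨G, hG⟩ := (Module.Finite.iff_fg.1 this : W'.FG)
  have hGW : ∀ g ∈ G, g ∈ W' := fun g hg => hG ▸ Submodule.subset_span hg
  let Bs : Subalgebra S R := Algebra.adjoin S (G : Set R)
  let Bk : Subalgebra k R := Bs.restrictScalars k
  have hBfin : Module.Finite S Bs := by
    exact ⟨(Submodule.fg_top _).mpr (fg_adjoin_of_finite G.finite_toSet fun g hg => (hGW g hg).2)⟩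
  let M : Subalgebra k (R ⊗[k] A) := (Algebra.TensorProduct.map Bk.val (AlgHom.id k A)).range
  have hM : ∀ t, t ∈ LinearMap.range (Bk.toSubmodule.subtype.rTensor A) ↔ t ∈ M := by
    intro t
    have e : Bk.toSubmodule.subtype.rTensor A = (Algebra.TensorProduct.map Bk.val (AlgHom.id k A)).toLinearMap := by
      ext b a; rfl
    rw [e]
    exact Iff.rfl
  have hBs : HopfRep.IsSubcomod (k := k) (A := A) Bk.toSubmodule := by
    intro b hb
    rw [hM, ← GLin.coactAlgHom_apply]
    have hb' : b ∈ Algebra.adjoin S (G : Set R) := hb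
    clear hb
    induction hb' using Algebra.adjoin_induction with
    | mem g hg =>
      refine (hM _).1 ?_
      obtain ⟨t, ht⟩ := hW's g (hGW g hg)
      refine ⟨(Submodule.inclusion (?_ : W' ≤ Bk.toSubmodule)).rTensor A t, ?_⟩
      · rw [← hG, Submodule.span_le]; exact Algebra.subset_adjoin
      · rw [GLin.coactAlgHom_apply, ← ht, ← LinearMap.rTensor_comp_apply]; rfl
    | algebraMap s =>
      rw [GLin.coactAlgHom_apply, hequiv' s]
      let incl : S →ₐ[k] Bk := (IsScalarTower.toAlgHom k S R).codRestrict Bk fun s => Bs.algebraMap_mem s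
      refine ⟨Algebra.TensorProduct.map incl (AlgHom.id k A) (HopfRep.Comod.coact (k := k) (A := A) s), ?_⟩
      generalize (HopfRep.Comod.coact (k := k) (A := A) s) = t
      induction t using TensorProduct.induction_on with
      | zero => simp
      | add x y hx hy => simp only [map_add]; exact congrArg₂ (· + ·) hx hy
      | tmul a b => rfl
    | add x y _ _ hx hy => rw [map_add]; exact add_mem hx hy
    | mul x y _ _ hx hy => rw [map_mul]; exact mul_mem hx hy
  have hmem : ∀ t ∈ F, t ∈ Bs := fun t ht => by
    have h1 : t ∈ W' := ⟨hFW (Finset.mem_coe.2 ht), hF t ht⟩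
    have hWB : W' ≤ Bk.toSubmodule := by rw [← hG, Submodule.span_le]; exact Algebra.subset_adjoin
    exact hWB h1
  have hrB : r ∈ Bs := hmem r (Finset.mem_insert_self _ _)
  refine ⟨Bs, r, hBfin, hBs, hrB, hrm, fun t => ?_⟩
  have ht : t ∈ Algebra.adjoin S (gens : Set R) := by rw [hgens]; trivial
  induction ht using Algebra.adjoin_induction with
  | mem t ht => exact ⟨μ t, hmem _ (Finset.mem_insert_of_mem (Finset.mem_image.2 ⟨t, ht, rfl⟩))⟩
  | algebraMap s => exact ⟨0, by rw [pow_zero, one_mul]; exact Bs.algebraMap_mem s⟩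
  | add u v _ _ hu hv =>
    obtain ⟨e, he⟩ := hu
    obtain ⟨e', he'⟩ := hv
    refine ⟨e + e', ?_⟩
    rw [show r ^ (e + e') * (u + v) = r ^ e' * (r ^ e * u) + r ^ e * (r ^ e' * v) by rw [pow_add]; ring]
    exact add_mem (mul_mem (pow_mem hrB _) he) (mul_mem (pow_mem hrB _) he')
  | mul u v _ _ hu hv =>
    obtain ⟨e, he⟩ := hu
    obtain ⟨e', he'⟩ := hv
    refine ⟨e + e', ?_⟩
    rw [show r ^ (e + e') * (u * v) = (r ^ e * u) * (r ^ e' * v) by rw [pow_add]; ring]
    exact mul_mem he he'

end Groth.Agent.Luna8
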